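import Cfsg.Agent.OddHalf.D9.L34Mult.Kernel
import Cfsg.Agent.StdL34.ExistsCov

/-!
# The 2-part of the Schur multiplier of `PSL(3,4)`

`K` finite perfect, `center K` a 2-group, `K ⧸ center K ≃* PSL(3,4)`: the centre has exponent dividing four
and is generated by two elements.
-/

set_option autoImplicit false
set_option linter.constructorNameAsVariable false
set_option linter.unusedSectionVars false

namespace Cfsg.Agent.OddHalf.D9.L34Mult

open Subgroup
open Cfsg.Agent.SporadicA.FieldFour
open Cfsg.Agent.ONType.Psl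

namespace CE

variable {M : Type*} [Group M] {π : M →* PSL3} (C : CE π)
include C

theorem f_eq_g (s : F4) : C.f s = C.g (s * s) * C.g (s * s) := by
  rw [C.g_sq]
  congr 1
  revert s; decide

theorem g_w2 : C.g ω2 = C.g 1 * C.g ω * C.f ω := by
  have h := C.g_add 1 ω
  have e1 : (1 : F4) + ω = ω2 := by decide
  have e2 : (1 : F4) * ω = ω := by decide
  rw [e1, e2] at h
  exact h

theorem f_w : C.f ω = C.g 1 * C.g 1 * (C.g ω * C.g ω) := by
  have h1 := C.g_sq 1
  have h2 := C.g_sq ω
  have h3 := C.f_add 1 ω2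
  have e1 : (1 : F4) + ω2 = ω := by decide
  have e2 : (1 : F4) * 1 = 1 := by decide
  have e3 : ω * ω = ω2 := by decide
  rw [e2] at h1
  rw [e3] at h2
  rw [e1] at h3
  rw [h1, h2, h3]

/-- `g s` in terms of `g 1`, `g ω` -/
theorem g_mem (s : F4) : C.g s ∈ closure ({C.g 1, C.g ω} : Set M) := by
  have h1 : C.g 1 ∈ closure ({C.g 1, C.g ω} : Set M) := subset_closure (by simp)
  have hw : C.g ω ∈ closure ({C.g 1, C.g ω} : Set M) := subset_closure (by simp)
  cases s
  · exact C.g_zero ▸ one_mem _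
  · exact h1
  · exact hw
  · show C.g ω2 ∈ _
    rw [C.g_w2, C.f_w]
    exact mul_mem (mul_mem h1 hw) (mul_mem (mul_mem h1 h1) (mul_mem hw hw))

theorem g_four (s : F4) : C.g s ^ 4 = 1 := by
  have h1 := C.g_sq s
  have h2 := C.f_sq (s * s)
  calc C.g s ^ 4 = (C.g s * C.g s) * (C.g s * C.g s) := by
        simp only [pow_succ, pow_zero, one_mul, mul_assoc]
    _ = 1 := by rw [h1, h2]

/-- elements of the kernel -/
theorem ker_form [Finite M] (hperf : commutator M = ⊤) (h2 : IsPGroup 2 π.ker) (k : M)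
    (hk : π k = 1) : ∃ a b : ℕ, k = C.g 1 ^ a * C.g ω ^ b := by
  have hc : ∀ (a : ℕ) (m : M), C.g 1 ^ a * m = m * C.g 1 ^ a := fun a m =>
    ((show Commute (C.g 1) m from C.g_cen 1 m).pow_left a).eq
  have hc' : ∀ (a : ℕ) (m : M), C.g ω ^ a * m = m * C.g ω ^ a := fun a m =>
    ((show Commute (C.g ω) m from C.g_cen ω m).pow_left a).eq
  let B : Subgroup M :=
    { carrier := {k | ∃ a b : ℕ, k = C.g 1 ^ a * C.g ω ^ b}
      mul_mem' := by
        rintro _ _ ⟨a, b, rfl⟩ ⟨a', b', rfl⟩
        refine ⟨a + a', b + b', ?_⟩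
        calc C.g 1 ^ a * C.g ω ^ b * (C.g 1 ^ a' * C.g ω ^ b')
            = C.g 1 ^ a * (C.g ω ^ b * C.g 1 ^ a') * C.g ω ^ b' := by group
          _ = C.g 1 ^ a * (C.g 1 ^ a' * C.g ω ^ b) * C.g ω ^ b' := by rw [hc']
          _ = _ := by rw [pow_add, pow_add]; group
      one_mem' := ⟨0, 0, by simp⟩
      inv_mem' := by
        rintro _ ⟨a, b, rfl⟩
        refine ⟨3 * a, 3 * b, ?_⟩
        apply inv_eq_of_mul_eq_one_right
        have e1 : C.g 1 ^ a * C.g 1 ^ (3 * a) = 1 := by
          rw [← pow_add, show a + 3 * a = 4 * a by ring, pow_mul, C.g_four, one_pow]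
        have e2 : C.g ω ^ b * C.g ω ^ (3 * b) = 1 := by
          rw [← pow_add, show b + 3 * b = 4 * b by ring, pow_mul, C.g_four, one_pow]
        calc C.g 1 ^ a * C.g ω ^ b * (C.g 1 ^ (3 * a) * C.g ω ^ (3 * b))
            = C.g 1 ^ a * (C.g ω ^ b * C.g 1 ^ (3 * a)) * C.g ω ^ (3 * b) := by group
          _ = (C.g 1 ^ a * C.g 1 ^ (3 * a)) * (C.g ω ^ b * C.g ω ^ (3 * b)) := by
              rw [hc']; group
          _ = 1 := by rw [e1, e2, one_mul] }
  have hB : closure ({C.g 1, C.g ω} : Set M) ≤ B := by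
    rw [closure_le]
    rintro y (rfl | rfl)
    · exact ⟨1, 0, by simp⟩
    · exact ⟨0, 1, by simp⟩
  exact C.ker_gen hperf h2 B (fun s => hB (C.g_mem s)) hk

theorem ker_four [Finite M] (hperf : commutator M = ⊤) (h2 : IsPGroup 2 π.ker) (k : M)
    (hk : π k = 1) : k ^ 4 = 1 := by
  obtain ⟨a, b, rfl⟩ := C.ker_form hperf h2 k hk
  have hc : Commute (C.g 1 ^ a) (C.g ω ^ b) :=
    (show Commute (C.g 1) (C.g ω ^ b) from C.g_cen 1 _).pow_left a
  rw [hc.mul_pow, ← pow_mul, ← pow_mul, mul_comm a, mul_comm b, pow_mul, pow_mul, C.g_four,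
    C.g_four, one_pow, one_pow, one_mul]

end CE

/-- coordinates exist -/
theorem exists_ce {M : Type*} [Group M] {F : Type*} [Field F] [Fintype F] (hF : Fintype.card F = 4)
    (e : M ⧸ center M ≃* Matrix.ProjectiveSpecialLinearGroup (Fin 3) F) :
    ∃ π : M →* PSL3, CE π ∧ π.ker = center M := by
  obtain ⟨e'⟩ := nonempty_psl_equiv (n := Fin 3) F hF
  let π : M →* PSL3 := (e.trans e'.symm).toMonoidHom.comp (QuotientGroup.mk' (center M))
  have hker : π.ker = center M := by
    ext k
    rw [MonoidHom.mem_ker]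
    show (e.trans e'.symm) (QuotientGroup.mk k) = 1 ↔ _
    rw [map_eq_one_iff _ (e.trans e'.symm).injective, QuotientGroup.eq_one_iff]
  refine ⟨π, ⟨?_, ?_⟩, hker⟩
  · exact (e.trans e'.symm).surjective.comp (QuotientGroup.mk'_surjective _)
  · intro k hk m
    have : k ∈ π.ker := hk
    rw [hker, mem_center_iff] at this
    exact (this m).symm

/-- **The exponent of the centre divides four.** -/
theorem center_four {M : Type*} [Group M] [Finite M] (hperf : commutator M = ⊤)
    (h2 : IsPGroup 2 (center M)) {F : Type*} [Field F] [Fintype F] (hF : Fintype.card F = 4)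
    (e : M ⧸ center M ≃* Matrix.ProjectiveSpecialLinearGroup (Fin 3) F) (z : M)
    (hz : z ∈ center M) : z ^ 4 = 1 := by
  obtain ⟨π, C, hker⟩ := exists_ce hF e
  rw [← hker] at h2 hz
  exact C.ker_four hperf h2 z hz

/-- involutions (and `1`) of the centre -/
def omega (M : Type*) [Group M] : Subgroup M where
  carrier := {k | k ∈ center M ∧ k * k = 1}
  mul_mem' := by
    rintro a b ⟨ha, ha2⟩ ⟨hb, hb2⟩
    refine ⟨mul_mem ha hb, ?_⟩
    calc a * b * (a * b) = a * (b * a) * b := by group
      _ = a * (a * b) * b := by rw [mem_center_iff.mp ha b]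
      _ = (a * a) * (b * b) := by group
      _ = 1 := by rw [ha2, hb2, one_mul]
  one_mem' := ⟨one_mem _, one_mul 1⟩
  inv_mem' := by
    rintro a ⟨ha, ha2⟩
    refine ⟨inv_mem ha, ?_⟩
    have := congrArg (·⁻¹) ha2
    simpa using this

/-- **The 2-rank of the centre is at most two.** -/
theorem card_omega_le {M : Type*} [Group M] [Finite M] (hperf : commutator M = ⊤)
    (h2 : IsPGroup 2 (center M)) {F : Type*} [Field F] [Fintype F] (hF : Fintype.card F = 4)
    (e : M ⧸ center M ≃* Matrix.ProjectiveSpecialLinearGroup (Fin 3) F) :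
    Nat.card (omega M) ≤ 4 := by
  obtain ⟨π, C, hker⟩ := exists_ce hF e
  have hmem : ∀ k, k ∈ center M → π k = 1 := fun k hk => by
    rw [← hker] at hk; exact hk
  have h2' : IsPGroup 2 π.ker := by rw [hker]; exact h2
  have hmem' : ∀ k, π k = 1 → k ∈ center M := fun k hk => by
    rw [← hker]; exact hk
  -- squaring
  let sq : center M →* center M :=
    { toFun := fun a => a * a
      map_one' := one_mul 1
      map_mul' := fun a b => by
        apply Subtype.ext
        show (a : M) * b * (a * b) = a * a * (b * b)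
        have := mem_center_iff.mp a.2 b
        calc (a : M) * b * (a * b) = a * ((b : M) * a) * b := by group
          _ = a * ((a : M) * b) * b := by rw [this]
          _ = _ := by group }
  have hker2 : Nat.card sq.ker = Nat.card (omega M) := by
    apply Nat.card_congr
    exact
      { toFun := fun a => ⟨a.1.1, a.1.2, congrArg Subtype.val a.2⟩
        invFun := fun a => ⟨⟨a.1, a.2.1⟩, Subtype.ext a.2.2⟩
        left_inv := fun a => rfl
        right_inv := fun a => rfl }
  have h3 : Nat.card sq.ker * Nat.card sq.range = Nat.card (center M) := by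
    rw [← Subgroup.index_ker]; exact card_mul_index _
  -- the quotient by the squares has at most four elements
  have hn : sq.range.Normal := ⟨fun a ha b => by
    have : b * a * b⁻¹ = a := by
      apply Subtype.ext
      show (b : M) * a * (b : M)⁻¹ = a
      rw [mem_center_iff.mp a.2 b, mul_inv_cancel_right]
    rw [this]; exact ha⟩
  let G1 : center M := ⟨C.g 1, hmem' _ (C.g_map 1)⟩
  let Gw : center M := ⟨C.g ω, hmem' _ (C.g_map ω)⟩
  let φ : Fin 2 × Fin 2 → center M ⧸ sq.range :=
    fun p => QuotientGroup.mk (G1 ^ (p.1 : ℕ) * Gw ^ (p.2 : ℕ))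
  have hφ : Function.Surjective φ := by
    intro q
    obtain ⟨k, rfl⟩ := QuotientGroup.mk_surjective q
    obtain ⟨a, b, hab⟩ := C.ker_form hperf h2' k (hmem _ k.2)
    refine ⟨(⟨a % 2, Nat.mod_lt _ (by norm_num)⟩, ⟨b % 2, Nat.mod_lt _ (by norm_num)⟩), ?_⟩
    show (QuotientGroup.mk (G1 ^ (a % 2) * Gw ^ (b % 2)) : center M ⧸ sq.range) = _
    rw [QuotientGroup.eq]
    refine ⟨G1 ^ (a / 2) * Gw ^ (b / 2), ?_⟩
    apply Subtype.ext
    show C.g 1 ^ (a / 2) * C.g ω ^ (b / 2) * (C.g 1 ^ (a / 2) * C.g ω ^ (b / 2)) =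
      (C.g 1 ^ (a % 2) * C.g ω ^ (b % 2))⁻¹ * k
    have hc : ∀ i j : ℕ, C.g ω ^ i * C.g 1 ^ j = C.g 1 ^ j * C.g ω ^ i := fun i j =>
      (((show Commute (C.g ω) (C.g 1 ^ j) from C.g_cen ω _).pow_left i)).eq
    rw [hab, eq_inv_mul_iff_mul_eq]
    conv_rhs => rw [← Nat.mod_add_div a 2, ← Nat.mod_add_div b 2]
    have key : ∀ p q r s : ℕ, C.g 1 ^ p * C.g ω ^ q * (C.g 1 ^ r * C.g ω ^ s *
        (C.g 1 ^ r * C.g ω ^ s)) = C.g 1 ^ (p + 2 * r) * C.g ω ^ (q + 2 * s) := by
      intro p q r s
      have e1 : C.g 1 ^ r * C.g ω ^ s * (C.g 1 ^ r * C.g ω ^ s) = C.g 1 ^ (2 * r) * C.g ω ^ (2 * s) := by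
        calc C.g 1 ^ r * C.g ω ^ s * (C.g 1 ^ r * C.g ω ^ s)
            = C.g 1 ^ r * (C.g ω ^ s * C.g 1 ^ r) * C.g ω ^ s := by simp only [mul_assoc]
          _ = C.g 1 ^ r * C.g 1 ^ r * (C.g ω ^ s * C.g ω ^ s) := by rw [hc]; simp only [mul_assoc]
          _ = _ := by rw [two_mul, two_mul, pow_add, pow_add]
      rw [e1]
      calc C.g 1 ^ p * C.g ω ^ q * (C.g 1 ^ (2 * r) * C.g ω ^ (2 * s))
          = C.g 1 ^ p * (C.g ω ^ q * C.g 1 ^ (2 * r)) * C.g ω ^ (2 * s) := by
            simp only [mul_assoc]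
        _ = C.g 1 ^ p * C.g 1 ^ (2 * r) * (C.g ω ^ q * C.g ω ^ (2 * s)) := by
            rw [hc]; simp only [mul_assoc]
        _ = _ := by rw [pow_add, pow_add]
    exact key _ _ _ _
  have h4 : Nat.card (center M ⧸ sq.range) ≤ 4 := by
    have := Nat.card_le_card_of_surjective φ hφ
    rw [Nat.card_prod] at this
    simpa using this
  have h5 := card_mul_index sq.range
  have h6 : sq.range.index = Nat.card (center M ⧸ sq.range) := rfl
  have h7 : 0 < Nat.card sq.range := Nat.card_pos
  rw [← h3, hker2, h6, mul_comm] at h5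
  have := Nat.eq_of_mul_eq_mul_right h7 h5
  omega

/-- an abelian group of exponent four with at most one involution is cyclic -/
theorem isCyclic_of_le_two {A : Type*} [CommGroup A] [Finite A] (h4 : ∀ a : A, a ^ 4 = 1)
    (h2 : Nat.card {a : A // a * a = 1} ≤ 2) : IsCyclic A := by
  classical
  have : Fintype A := Fintype.ofFinite A
  -- `|A| ≤ 4`
  let sq : A →* A := powMonoidHom 2
  have hk : Nat.card sq.ker ≤ 2 := by
    refine le_trans (le_of_eq (Nat.card_congr (Equiv.subtypeEquivRight (fun a => ?_)))) h2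
    show a ^ 2 = 1 ↔ a * a = 1
    rw [pow_two]
  have hr : Nat.card sq.range ≤ 2 := by
    refine le_trans ?_ hk
    refine Subgroup.card_le_of_le ?_
    rintro _ ⟨a, rfl⟩
    show (a ^ 2) ^ 2 = 1
    rw [← pow_mul]; exact h4 a
  have hA : Nat.card A ≤ 4 := by
    have h := card_mul_index sq.ker
    rw [Subgroup.index_ker] at h
    rw [← h]
    calc Nat.card sq.ker * Nat.card sq.range ≤ 2 * 2 := Nat.mul_le_mul hk hr
      _ = 4 := rfl
  apply isCyclic_of_card_pow_eq_one_le
  intro n hn
  rcases (by omega : n = 1 ∨ n = 2 ∨ n = 3 ∨ 4 ≤ n) with rfl | rfl | rfl | h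
  · have : (Finset.univ.filter fun a : A => a ^ 1 = 1) ⊆ {1} := by
      intro a ha
      simpa using ha
    exact le_trans (Finset.card_le_card this) (by simp)
  · rw [Nat.card_eq_fintype_card, Fintype.card_subtype] at h2
    refine le_trans (le_of_eq ?_) h2
    congr 1
    ext a
    simp [pow_two]
  · have : (Finset.univ.filter fun a : A => a ^ 3 = 1) ⊆ {1} := by
      intro a ha
      have h3 : a ^ 3 = 1 := by simpa using ha
      have h4 := h4 a
      rw [Finset.mem_singleton]
      calc a = a ^ 4 * (a ^ 3)⁻¹ := by group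
        _ = 1 := by rw [h4, h3]; group
    exact le_trans (Finset.card_le_card this) (by simp)
  · refine le_trans (Finset.card_le_univ _) ?_
    rw [← Nat.card_eq_fintype_card]
    omega

/-- **A noncyclic centre has exactly three involutions.** -/
theorem card_omega {M : Type*} [Group M] [Finite M] (hperf : commutator M = ⊤)
    (h2 : IsPGroup 2 (center M)) {F : Type*} [Field F] [Fintype F] (hF : Fintype.card F = 4)
    (e : M ⧸ center M ≃* Matrix.ProjectiveSpecialLinearGroup (Fin 3) F)
    (hnc : ¬ IsCyclic (center M)) : Nat.card (omega M) = 4 := by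
  have h1 := card_omega_le hperf h2 hF e
  have h4 := center_four hperf h2 hF e
  have h3 : ¬ Nat.card (omega M) ≤ 2 := by
    intro h
    apply hnc
    let icg : CommGroup (center M) :=
      { (inferInstance : Group (center M)) with
        mul_comm := fun a b => Subtype.ext (mem_center_iff.mp b.2 a) }
    refine isCyclic_of_le_two (A := center M) ?_ ?_
    · intro a
      exact Subtype.ext (h4 a a.2)
    · refine le_trans (le_of_eq (Nat.card_congr ?_)) h
      exact
        { toFun := fun a => ⟨a.1.1, a.1.2, congrArg Subtype.val a.2⟩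
          invFun := fun a => ⟨⟨a.1, a.2.1⟩, Subtype.ext a.2.2⟩
          left_inv := fun a => rfl
          right_inv := fun a => rfl }
  have h5 : Nat.card (omega M) ≠ 3 := by
    intro h
    obtain ⟨x, hx⟩ : ∃ x : omega M, x ≠ 1 := by
      have : 1 < Nat.card (omega M) := by omega
      rw [Finite.one_lt_card_iff_nontrivial] at this
      exact exists_ne 1
    have h6 : orderOf x = 2 := by
      apply orderOf_eq_prime _ hx
      rw [pow_two]
      exact Subtype.ext x.2.2
    have h7 := orderOf_dvd_natCard x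
    rw [h6, h] at h7
    omega
  omega

/-- a cyclic centre has order `1`, `2` or `4` -/
theorem card_cyclic {M : Type*} [Group M] [Finite M] (hperf : commutator M = ⊤)
    (h2 : IsPGroup 2 (center M)) {F : Type*} [Field F] [Fintype F] (hF : Fintype.card F = 4)
    (e : M ⧸ center M ≃* Matrix.ProjectiveSpecialLinearGroup (Fin 3) F)
    (hc : IsCyclic (center M)) : Nat.card (center M) ∣ 4 := by
  obtain ⟨z, hz⟩ := hc.exists_generator
  rw [← orderOf_eq_card_of_forall_mem_zpowers hz]
  apply orderOf_dvd_of_pow_eq_one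
  exact Subtype.ext (center_four hperf h2 hF e z z.2)

end Cfsg.Agent.OddHalf.D9.L34Mult
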