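import Cfsg.Agent.OddHalf.D9.L34Mult.Gamma
import Cfsg.Agent.OddHalf.D9.LemmaW

/-!
# Standard subgroups `(4 × 2).L3(4)`, `(4 × 4).L3(4)`

LEMMA W and GAMMA: the group is in the list of S1179.
-/

set_option autoImplicit false

namespace Cfsg.Agent.OddHalf.D9.L34Mult.Row

open Subgroup
open Cfsg.Agent.OddHalf.D9.LemmaW

universe u

/-- a centre with three involutions and no element of order four is a Klein four-group -/
theorem exists_sq_ne {M : Type*} [Group M] (h4 : Nat.card (omega M) = 4)
    (hk : ¬ IsKleinFour (center M)) : ∃ z ∈ center M, z * z ≠ 1 := by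
  by_contra hcon
  push Not at hcon
  apply hk
  have hc : Nat.card (center M) = 4 := by
    rw [← h4]
    apply Nat.card_congr
    exact
      { toFun := fun a => ⟨a.1, a.2, hcon a.1 a.2⟩
        invFun := fun a => ⟨a.1, a.2.1⟩
        left_inv := fun a => rfl
        right_inv := fun a => rfl }
  refine ⟨hc, ?_⟩
  have hdvd : Monoid.exponent (center M) ∣ 2 := by
    apply Monoid.exponent_dvd_of_forall_pow_eq_one
    intro a
    rw [pow_two]
    exact Subtype.ext (hcon a.1 a.2)
  rcases (Nat.dvd_prime Nat.prime_two).mp hdvd with h | h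
  · exfalso
    have h1 := Monoid.exp_eq_one_iff.mp h
    have := Nat.card_of_subsingleton (1 : center M)
    rw [hc] at this
    omega
  · exact h

/-- **The rows `(4 × 2).L3(4)` and `(4 × 4).L3(4)`.** -/
theorem standard_list_L34 {G : Type u} [Group G] [Finite G] [IsSimpleGroup G] (h1179 : H1179.{u})
    (hna : ¬ IsMulCommutative G) {K : Subgroup G} (hK : Cfsg.IsStandardSubgroup K)
    (hZ2 : IsPGroup 2 (center ↥K)) (hnc : ¬ IsCyclic (center ↥K))
    (hnk : ¬ IsKleinFour (center ↥K)) {F : Type*} [Field F] [Fintype F]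
    (hF : Fintype.card F = 4)
    (e : ↥K ⧸ center ↥K ≃* Matrix.ProjectiveSpecialLinearGroup (Fin 3) F) : List1179 G := by
  have hperf : _root_.commutator ↥K = ⊤ := (show Group.IsPerfect ↥K from hK.1.1).commutator_eq_top
  have hcard := card_omega hperf hZ2 hF e hnc
  have hne := exists_sq_ne hcard hnk
  have hmem : ∀ x : G, x ∈ (omega ↥K).map K.subtype ↔ ∃ h : x ∈ K, (⟨x, h⟩ : K) ∈ omega ↥K := by
    intro x
    constructor
    · rintro ⟨y, hy, rfl⟩
      exact ⟨y.2, hy⟩
    · rintro ⟨h, hx⟩
      exact ⟨⟨x, h⟩, hx, rfl⟩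
  refine standard_list (Z := (omega ↥K).map K.subtype) h1179 hna hK ?_ ?_ ?_ ?_ ?_
  · intro x hx
    obtain ⟨h, hx⟩ := (hmem x).mp hx
    rw [mem_centralizer_iff]
    intro k hk
    exact congrArg Subtype.val (mem_center_iff.mp hx.1 ⟨k, hk⟩)
  · have key : ∀ n ∈ normalizer (K : Set G), ∀ x ∈ (omega ↥K).map K.subtype,
        n * x * n⁻¹ ∈ (omega ↥K).map K.subtype := by
      intro n hn x hx
      obtain ⟨h, hx⟩ := (hmem x).mp hx
      rw [hmem]
      refine ⟨(mem_normalizer_iff.mp hn x).mp h, ?_, ?_⟩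
      · rw [mem_center_iff]
        intro k
        apply Subtype.ext
        show (k : G) * (n * x * n⁻¹) = n * x * n⁻¹ * k
        have hk : n⁻¹ * k * n ∈ K := by
          have := (mem_normalizer_iff.mp (inv_mem hn) (k : G)).mp k.2
          rwa [inv_inv] at this
        have h1 : (n⁻¹ * k * n) * x = x * (n⁻¹ * k * n) :=
          congrArg Subtype.val (mem_center_iff.mp hx.1 ⟨_, hk⟩)
        calc (k : G) * (n * x * n⁻¹) = n * ((n⁻¹ * k * n) * x) * n⁻¹ := by group
          _ = n * (x * (n⁻¹ * k * n)) * n⁻¹ := by rw [h1]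
          _ = _ := by group
      · apply Subtype.ext
        show n * x * n⁻¹ * (n * x * n⁻¹) = 1
        have h2 : x * x = 1 := congrArg Subtype.val hx.2
        calc n * x * n⁻¹ * (n * x * n⁻¹) = n * (x * x) * n⁻¹ := by group
          _ = 1 := by rw [h2]; group
    intro n hn
    rw [mem_normalizer_iff]
    intro x
    constructor
    · exact key n hn x
    · intro hx
      have := key n⁻¹ (inv_mem hn) _ hx
      have e1 : n⁻¹ * (n * x * n⁻¹) * n⁻¹⁻¹ = x := by group
      rwa [e1] at this
  · intro x hx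
    obtain ⟨h, hx⟩ := (hmem x).mp hx
    exact congrArg Subtype.val hx.2
  · rw [card_map_of_injective (subtype_injective _)]
    exact hcard
  · intro U hU2 hU4 hUK hUC _ hUN
    exact Gamma.gamma hperf hZ2 hF e hne U hU2 hU4 hUK hUC hUN

end Cfsg.Agent.OddHalf.D9.L34Mult.Row
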