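import Cfsg.Agent.OddHalf.D9.L34Mult.Mult
import Cfsg.Agent.ONType.OuterC

/-!
# Automorphisms of a perfect central extension of `PSL(3,4)`
-/

set_option autoImplicit false
set_option linter.constructorNameAsVariable false
set_option linter.unusedSectionVars false

namespace Cfsg.Agent.OddHalf.D9.L34Mult

open Cfsg.Agent.SporadicA.FieldFour
open Cfsg.Agent.ONType.Psl
open scoped commutatorElement

namespace CE

variable {M : Type*} [Group M] {π : M →* PSL3} (C : CE π)
include C

/-- the canonical lifts generate a perfect extension -/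
theorem closure_x (hperf : commutator M = ⊤) :
    Subgroup.closure {y : M | ∃ (i j : Fin 3) (u : F4), i ≠ j ∧ y = C.x i j u} = ⊤ := by
  set K := Subgroup.closure {y : M | ∃ (i j : Fin 3) (u : F4), i ≠ j ∧ y = C.x i j u} with hK
  have hmap : K.map π = ⊤ := by
    rw [eq_top_iff, ← Cfsg.Agent.ONType.OuterC.closure_t, Subgroup.closure_le]
    rintro y ⟨i, j, u, hij, rfl⟩
    exact ⟨C.x i j u, Subgroup.subset_closure ⟨i, j, u, hij, rfl⟩, C.map_x i j hij u⟩
  have hdec : ∀ m : M, ∃ k ∈ K, ∃ c : M, π c = 1 ∧ m = k * c := by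
    intro m
    have : π m ∈ K.map π := by rw [hmap]; trivial
    obtain ⟨k, hk, hkm⟩ := this
    obtain ⟨c, hc, hc'⟩ := CE.eq_mul_of_map_eq hkm
    exact ⟨k, hk, c, hc, hc'⟩
  rw [eq_top_iff, ← hperf, commutator_def, Subgroup.commutator_le]
  intro a _ b _
  obtain ⟨k, hk, c, hc, rfl⟩ := hdec a
  obtain ⟨l, hl, d, hd, rfl⟩ := hdec b
  have cc := C.cen c hc
  have cd := C.cen d hd
  have hcomm : ⁅k * c, l * d⁆ = ⁅k, l⁆ := by
    have e1 : ∀ x y z : M, π z = 1 → ⁅x * z, y⁆ = ⁅x, y⁆ := by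
      intro x y z hz
      have h1 := C.cen z hz
      have h2 : z * y * z⁻¹ = y := by rw [h1 y, mul_inv_cancel_right]
      calc ⁅x * z, y⁆ = x * (z * y * z⁻¹) * x⁻¹ * y⁻¹ := by rw [commutatorElement_def]; group
        _ = ⁅x, y⁆ := by rw [h2, commutatorElement_def]
    rw [e1 k (l * d) c hc, ← commutatorElement_inv, e1 l k d hd, commutatorElement_inv]
  rw [hcomm, commutatorElement_def]
  exact K.mul_mem (K.mul_mem (K.mul_mem hk hl) (K.inv_mem hk)) (K.inv_mem hl)

/-- an endomorphism over the identity of `PSL(3,4)` is the identity -/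
theorem hom_eq_id (hperf : commutator M = ⊤) (φ : M →* M) (h : ∀ m, π (φ m) = π m) (m : M) :
    φ m = m := by
  have : φ = MonoidHom.id M := by
    refine MonoidHom.eq_of_eqOn_dense (C.closure_x hperf) ?_
    rintro y ⟨i, j, u, hij, rfl⟩
    exact x_nat C C φ h i j hij u
  rw [this]; rfl

/-- An automorphism of `M` induces an automorphism of `PSL(3,4)`. -/
theorem exists_induced (hcen : ∀ k : M, (∀ m, k * m = m * k) → π k = 1)
    (α : MulAut M) : ∃ β : MulAut PSL3, ∀ m, β (π m) = π (α m) := by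
  have hk : ∀ k : M, k ∈ π.ker ↔ ∀ m, k * m = m * k :=
    fun k => ⟨fun h => C.cen k h, fun h => hcen k h⟩
  have hle : ∀ α : MulAut M, π.ker ≤ π.ker.comap α.toMonoidHom := by
    intro α k h
    rw [Subgroup.mem_comap, hk]
    intro m
    have := congrArg α ((hk k).1 h (α.symm m))
    rw [map_mul, map_mul, MulEquiv.apply_symm_apply] at this
    exact this
  have hmap : π.ker.map α.toMonoidHom = π.ker := by
    apply le_antisymm
    · rw [Subgroup.map_le_iff_le_comap]
      exact hle α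
    · intro k h
      refine ⟨α.symm k, ?_, MulEquiv.apply_symm_apply α k⟩
      exact hle α.symm h
  let e := QuotientGroup.quotientKerEquivOfSurjective π C.surj
  have he : ∀ m : M, e (QuotientGroup.mk m) = π m := fun m => rfl
  refine ⟨(e.symm.trans (QuotientGroup.congr π.ker π.ker α hmap)).trans e, ?_⟩
  intro m
  have h1 : e.symm (π m) = QuotientGroup.mk m := by
    rw [← he, MulEquiv.symm_apply_apply]
  show e (QuotientGroup.congr π.ker π.ker α hmap (e.symm (π m))) = π (α m)
  rw [h1]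
  rfl

/-- the induced automorphism as a homomorphism -/
theorem exists_bar (hcen : ∀ k : M, (∀ m, k * m = m * k) → π k = 1) :
    ∃ b : MulAut M →* MulAut PSL3, ∀ α m, b α (π m) = π (α m) := by
  choose b hb using C.exists_induced hcen
  refine ⟨{ toFun := b, map_one' := ?_, map_mul' := ?_ }, fun α m => hb α m⟩
  · apply MulEquiv.ext
    intro y
    obtain ⟨m, rfl⟩ := C.surj y
    rw [hb]; rfl
  · intro α γ
    apply MulEquiv.ext
    intro y
    obtain ⟨m, rfl⟩ := C.surj y
    rw [hb, MulAut.mul_apply, MulAut.mul_apply, hb, hb]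

/-- automorphisms inducing the same automorphism of `PSL(3,4)` are equal -/
theorem eq_of_bar (hperf : commutator M = ⊤) (b : MulAut M →* MulAut PSL3)
    (hb : ∀ α m, b α (π m) = π (α m)) {α γ : MulAut M} (h : b α = b γ) : α = γ := by
  apply MulEquiv.ext
  intro m
  have key := C.hom_eq_id hperf (γ⁻¹ * α).toMonoidHom (by
    intro m
    show π ((γ⁻¹ * α) m) = π m
    rw [← hb, map_mul, map_inv, h, inv_mul_cancel, MulAut.one_apply]) m
  have h1 : γ⁻¹ (α m) = m := key
  conv_rhs => rw [← h1]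
  rw [MulAut.apply_inv_self]

omit C in
theorem bar_conj (C : CE π) (b : MulAut M →* MulAut PSL3)
    (hb : ∀ α m, b α (π m) = π (α m)) (k : M) : b (MulAut.conj k) = MulAut.conj (π k) := by
  apply MulEquiv.ext
  intro y
  obtain ⟨m, rfl⟩ := C.surj y
  rw [hb, MulAut.conj_apply, MulAut.conj_apply, map_mul, map_mul, map_inv]

/-- an automorphism which is inner on `PSL(3,4)` is inner -/
theorem inner_of_bar (hperf : commutator M = ⊤) (b : MulAut M →* MulAut PSL3)
    (hb : ∀ α m, b α (π m) = π (α m)) {α : MulAut M} {k : M} (h : b α = MulAut.conj (π k)) :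
    α = MulAut.conj k := by
  apply C.eq_of_bar hperf b hb
  rw [bar_conj C b hb, h]

/-- elements of order three lift to fixed points -/
theorem exists_fixed (h4 : ∀ k, π k = 1 → k ^ 4 = 1) (b : MulAut M →* MulAut PSL3)
    (hb : ∀ α m, b α (π m) = π (α m)) {α : MulAut M} {y : PSL3} (hy : y ^ 3 = 1)
    (h : b α y = y) : ∃ m, π m = y ∧ m ^ 3 = 1 ∧ α m = m := by
  obtain ⟨m, rfl⟩ := C.surj y
  have h3 : (m ^ 4) ^ 3 = 1 := by
    rw [← pow_mul, mul_comm 4 3, pow_mul]
    exact h4 _ (by rw [map_pow, hy])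
  have hπ : π (m ^ 4) = π m := by
    rw [map_pow, pow_succ, hy, one_mul]
  refine ⟨m ^ 4, hπ, h3, ?_⟩
  have h5 : π (α (m ^ 4)) = π (m ^ 4) := by rw [← hb, hπ, h]
  obtain ⟨c, hc, hc'⟩ := CE.eq_mul_of_map_eq h5.symm
  have hcm : Commute (m ^ 4) c := (C.cen c hc (m ^ 4)).symm
  have h6 : (m ^ 4 * c) ^ 3 = 1 := by rw [← hc', ← map_pow, h3, map_one]
  rw [hcm.mul_pow, h3, one_mul] at h6
  have h7 := h4 c hc
  have h8 : c = 1 := by
    calc c = c ^ 4 * (c ^ 3)⁻¹ := by group
      _ = 1 := by rw [h7, h6]; group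
  rw [hc', h8, mul_one]

end CE

end Cfsg.Agent.OddHalf.D9.L34Mult
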