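import Cfsg.Agent.OddHalf.D9.L34Mult.Lift
import Cfsg.Agent.ONType.Comm

/-!
# Commutators of the canonical lifts
-/

set_option autoImplicit false
set_option linter.constructorNameAsVariable false
set_option linter.unusedVariables false
set_option linter.unusedSectionVars false

namespace Cfsg.Agent.OddHalf.D9.L34Mult.CE

open Cfsg.Agent.SporadicA.FieldFour
open Cfsg.Agent.ONType.Psl
open Cfsg.Agent.ONType.Comm

variable {M : Type*} [Group M] {π : M →* PSL3} (C : CE π)
include C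

/-- every permutation of the indices is induced by an element -/
theorem exists_perm (σ : Equiv.Perm (Fin 3)) :
    ∃ m : M, ∀ i j : Fin 3, i ≠ j → ∀ u : F4, m⁻¹ * C.x i j u * m = C.x (σ i) (σ j) u := by
  induction σ using Equiv.Perm.swap_induction_on with
  | one => exact ⟨1, fun i j _ u => by simp⟩
  | swap_mul f a b hab ih =>
    obtain ⟨m, hm⟩ := ih
    refine ⟨m * C.n a b, fun i j hij u => ?_⟩
    have h1 := hm i j hij u
    have h2 := C.n_conj_x a b (f i) (f j) hab (fun e => hij (f.injective e)) u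
    calc (m * C.n a b)⁻¹ * C.x i j u * (m * C.n a b)
        = (C.n a b)⁻¹ * (m⁻¹ * C.x i j u * m) * C.n a b := by group
      _ = C.x (Equiv.swap a b (f i)) (Equiv.swap a b (f j)) u := by rw [h1, h2]
      _ = _ := rfl

omit C in
theorem exists_sigma (i j k : Fin 3) (h1 : i ≠ j) (h2 : i ≠ k) (h3 : j ≠ k) :
    ∃ σ : Equiv.Perm (Fin 3), σ 0 = i ∧ σ 1 = j ∧ σ 2 = k := by
  revert i j k; decide

/-- row commutator -/
noncomputable def F (u v : F4) : M := cm (C.x 0 1 u) (C.x 0 2 v)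
/-- column commutator -/
noncomputable def F' (u v : F4) : M := cm (C.x 0 2 u) (C.x 1 2 v)
/-- central part of the Chevalley commutator -/
noncomputable def K (u v : F4) : M := (C.x 0 2 (u * v))⁻¹ * cm (C.x 0 1 u) (C.x 1 2 v)

theorem map_cm_row (i j k : Fin 3) (h1 : i ≠ j) (h2 : i ≠ k) (u v : F4) :
    π (cm (C.x i j u) (C.x i k v)) = 1 := by
  unfold cm
  simp only [map_mul, map_inv, C.map_x i j h1, C.map_x i k h2]
  rw [mul_assoc, t_row i j k u v h1 h2]; group

theorem map_cm_col (i j k : Fin 3) (h1 : i ≠ j) (h2 : k ≠ j) (u v : F4) :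
    π (cm (C.x i j u) (C.x k j v)) = 1 := by
  unfold cm
  simp only [map_mul, map_inv, C.map_x i j h1, C.map_x k j h2]
  rw [mul_assoc, t_col i j k u v h1 h2]; group

theorem map_cm_sum (i j k : Fin 3) (h1 : i ≠ j) (h2 : i ≠ k) (h3 : j ≠ k) (u v : F4) :
    π (cm (C.x i k u) (C.x k j v)) = t i j (u * v) := by
  unfold cm
  simp only [map_mul, map_inv, C.map_x i k h2, C.map_x k j h3.symm]
  rw [mul_assoc, t_sum i j k u v h1 h2 h3]; group

theorem F_map (u v : F4) : π (C.F u v) = 1 := C.map_cm_row 0 1 2 (by decide) (by decide) u v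
theorem F'_map (u v : F4) : π (C.F' u v) = 1 := C.map_cm_col 0 2 1 (by decide) (by decide) u v
theorem K_map (u v : F4) : π (C.K u v) = 1 := by
  rw [K, map_mul, map_inv, C.map_x 0 2 (by decide),
    C.map_cm_sum 0 2 1 (by decide) (by decide) (by decide), inv_mul_cancel]

theorem F_cen (u v : F4) (m : M) : C.F u v * m = m * C.F u v := C.cen _ (C.F_map u v) m
theorem F'_cen (u v : F4) (m : M) : C.F' u v * m = m * C.F' u v := C.cen _ (C.F'_map u v) m
theorem K_cen (u v : F4) (m : M) : C.K u v * m = m * C.K u v := C.cen _ (C.K_map u v) m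

theorem cm_row (i j k : Fin 3) (h1 : i ≠ j) (h2 : i ≠ k) (h3 : j ≠ k) (u v : F4) :
    cm (C.x i j u) (C.x i k v) = C.F u v := by
  obtain ⟨σ, s0, s1, s2⟩ := exists_sigma i j k h1 h2 h3
  obtain ⟨m, hm⟩ := C.exists_perm σ
  have e1 := hm 0 1 (by decide) u
  have e2 := hm 0 2 (by decide) v
  rw [s0, s1] at e1; rw [s0, s2] at e2
  rw [← e1, ← e2, ← cm_conj]
  exact conj_central (C.F_cen u v) m

theorem cm_col (i j k : Fin 3) (h1 : i ≠ j) (h2 : i ≠ k) (h3 : j ≠ k) (u v : F4) :
    cm (C.x i j u) (C.x k j v) = C.F' u v := by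
  obtain ⟨σ, s0, s1, s2⟩ := exists_sigma i k j h2 h1 h3.symm
  obtain ⟨m, hm⟩ := C.exists_perm σ
  have e1 := hm 0 2 (by decide) u
  have e2 := hm 1 2 (by decide) v
  rw [s0, s2] at e1; rw [s1, s2] at e2
  rw [← e1, ← e2, ← cm_conj]
  exact conj_central (C.F'_cen u v) m

theorem cm_sum (i j k : Fin 3) (h1 : i ≠ j) (h2 : i ≠ k) (h3 : j ≠ k) (u v : F4) :
    cm (C.x i k u) (C.x k j v) = C.x i j (u * v) * C.K u v := by
  obtain ⟨σ, s0, s1, s2⟩ := exists_sigma i k j h2 h1 h3.symm
  obtain ⟨m, hm⟩ := C.exists_perm σ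
  have e1 := hm 0 1 (by decide) u
  have e2 := hm 1 2 (by decide) v
  have e3 := hm 0 2 (by decide) (u * v)
  rw [s0, s1] at e1; rw [s1, s2] at e2; rw [s0, s2] at e3
  rw [← e1, ← e2, ← e3, ← cm_conj]
  have : cm (C.x 0 1 u) (C.x 1 2 v) = C.x 0 2 (u * v) * C.K u v := by unfold K; group
  rw [this]
  have h := conj_central (C.K_cen u v) m
  calc m⁻¹ * (C.x 0 2 (u * v) * C.K u v) * m
      = (m⁻¹ * C.x 0 2 (u * v) * m) * (m⁻¹ * C.K u v * m) := by group
    _ = _ := by rw [h]

/-! ### additivity -/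

theorem F_add_left (u u' v : F4) : C.F (u + u') v = C.F u v * C.F u' v := by
  show cm _ _ = _
  rw [← C.x_add 0 1 (by decide), cm_mul_left]
  show (C.x 0 1 u')⁻¹ * C.F u v * C.x 0 1 u' * C.F u' v = _
  rw [conj_central (C.F_cen u v)]

theorem F_add_right (u v v' : F4) : C.F u (v + v') = C.F u v * C.F u v' := by
  show cm _ _ = _
  rw [← C.x_add 0 2 (by decide), cm_mul_right]
  show C.F u v' * ((C.x 0 2 v')⁻¹ * C.F u v * C.x 0 2 v') = _
  rw [conj_central (C.F_cen u v), C.F_cen]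

theorem F'_add_left (u u' v : F4) : C.F' (u + u') v = C.F' u v * C.F' u' v := by
  show cm _ _ = _
  rw [← C.x_add 0 2 (by decide), cm_mul_left]
  show (C.x 0 2 u')⁻¹ * C.F' u v * C.x 0 2 u' * C.F' u' v = _
  rw [conj_central (C.F'_cen u v)]

theorem F'_add_right (u v v' : F4) : C.F' u (v + v') = C.F' u v * C.F' u v' := by
  show cm _ _ = _
  rw [← C.x_add 1 2 (by decide), cm_mul_right]
  show C.F' u v' * ((C.x 1 2 v')⁻¹ * C.F' u v * C.x 1 2 v') = _
  rw [conj_central (C.F'_cen u v), C.F'_cen]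

theorem F_zero_left (v : F4) : C.F 0 v = 1 := by
  show cm _ _ = _
  rw [C.x_zero 0 1 (by decide), cm_one_left]

theorem F_zero_right (v : F4) : C.F v 0 = 1 := by
  show cm _ _ = _
  rw [C.x_zero 0 2 (by decide), cm_one_right]

theorem F'_zero_left (v : F4) : C.F' 0 v = 1 := by
  show cm _ _ = _
  rw [C.x_zero 0 2 (by decide), cm_one_left]

theorem F'_zero_right (v : F4) : C.F' v 0 = 1 := by
  show cm _ _ = _
  rw [C.x_zero 1 2 (by decide), cm_one_right]

omit C in
theorem add_self (u : F4) : u + u = 0 := by revert u; decide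

theorem F_sq (u v : F4) : C.F u v * C.F u v = 1 := by
  rw [← C.F_add_left, add_self, C.F_zero_left]

theorem F'_sq (u v : F4) : C.F' u v * C.F' u v = 1 := by
  rw [← C.F'_add_left, add_self, C.F'_zero_left]

/-! ### invariance under the torus -/

theorem F_h (u v : F4) : C.F (ω * u) (ω2 * v) = C.F u v := by
  have e1 := C.h_conj_x 0 1 (by decide) u
  have e2 := C.h_conj_x 0 2 (by decide) v
  have k1 : kap 0 1 = ω := by decide
  have k2 : kap 0 2 = ω2 := by decide
  rw [k1] at e1; rw [k2] at e2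
  show cm _ _ = _
  rw [← e1, ← e2, ← cm_conj]
  exact conj_central (C.F_cen u v) _

theorem F'_h (u v : F4) : C.F' (ω2 * u) (ω * v) = C.F' u v := by
  have e1 := C.h_conj_x 0 2 (by decide) u
  have e2 := C.h_conj_x 1 2 (by decide) v
  have k1 : kap 0 2 = ω2 := by decide
  have k2 : kap 1 2 = ω := by decide
  rw [k1] at e1; rw [k2] at e2
  show cm _ _ = _
  rw [← e1, ← e2, ← cm_conj]
  exact conj_central (C.F'_cen u v) _

theorem K_h (u v : F4) : C.K (ω * u) (ω * v) = C.K u v := by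
  have e1 := C.h_conj_x 0 1 (by decide) u
  have e2 := C.h_conj_x 1 2 (by decide) v
  have e3 := C.h_conj_x 0 2 (by decide) (u * v)
  have k1 : kap 0 1 = ω := by decide
  have k2 : kap 1 2 = ω := by decide
  have k3 : kap 0 2 = ω2 := by decide
  rw [k1] at e1; rw [k2] at e2; rw [k3] at e3
  have h4 : ω * u * (ω * v) = ω2 * (u * v) := by
    have : ∀ u v : F4, ω * u * (ω * v) = ω2 * (u * v) := by decide
    exact this u v
  unfold K
  rw [h4, ← e1, ← e2, ← e3, ← cm_conj]
  have h5 : (C.h)⁻¹ * C.K u v * C.h = C.K u v := conj_central (C.K_cen u v) _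
  unfold K at h5
  rw [← h5]; group

/-- the row form -/
noncomputable def f (s : F4) : M := C.F 1 s
/-- the column form -/
noncomputable def f' (s : F4) : M := C.F' 1 s
/-- the quadratic function -/
noncomputable def g (s : F4) : M := C.K s 1

theorem F_eq (u v : F4) : C.F u v = C.f (u * v) := by
  unfold f
  have key : ∀ a b c d : F4, C.F (ω * a) (ω2 * b) = C.F a b := fun a b _ _ => C.F_h a b
  cases u
  · have h0 : (F4.z : F4) = 0 := rfl
    rw [h0, zero_mul, C.F_zero_left, C.F_zero_right]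
  · have h0 : (F4.o : F4) = 1 := rfl
    rw [h0, one_mul]
  · have := C.F_h 1 (ω * v)
    have e1 : ω2 * (ω * v) = v := by
      have : ∀ v : F4, ω2 * (ω * v) = v := by decide
      exact this v
    rw [e1, mul_one] at this
    exact this
  · have h1 := C.F_h ω (ω * v)
    have e1 : ω2 * (ω * v) = v := by
      have : ∀ v : F4, ω2 * (ω * v) = v := by decide
      exact this v
    have e2 : ω * ω = F4.v := by decide
    rw [e1, e2] at h1
    have h2 := C.F_h 1 (ω * (ω * v))
    have e3 : ω2 * (ω * (ω * v)) = ω * v := by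
      have : ∀ v : F4, ω2 * (ω * (ω * v)) = ω * v := by decide
      exact this v
    rw [e3, mul_one] at h2
    have e4 : F4.v * v = ω * (ω * v) := by
      have : ∀ v : F4, F4.v * v = ω * (ω * v) := by decide
      exact this v
    rw [h1, h2, e4]

theorem F'_eq (u v : F4) : C.F' u v = C.f' (u * v) := by
  unfold f'
  cases u
  · have h0 : (F4.z : F4) = 0 := rfl
    rw [h0, zero_mul, C.F'_zero_left, C.F'_zero_right]
  · have h0 : (F4.o : F4) = 1 := rfl
    rw [h0, one_mul]
  · have h1 := C.F'_h ω2 (ω2 * v)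
    have e1 : ω * (ω2 * v) = v := by
      have : ∀ v : F4, ω * (ω2 * v) = v := by decide
      exact this v
    have e2 : ω2 * ω2 = F4.w := by decide
    rw [e1, e2] at h1
    have h2 := C.F'_h 1 (ω2 * (ω2 * v))
    have e3 : ω * (ω2 * (ω2 * v)) = ω2 * v := by
      have : ∀ v : F4, ω * (ω2 * (ω2 * v)) = ω2 * v := by decide
      exact this v
    rw [e3, mul_one] at h2
    have e4 : F4.w * v = ω2 * (ω2 * v) := by
      have : ∀ v : F4, F4.w * v = ω2 * (ω2 * v) := by decide
      exact this v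
    rw [h1, h2, e4]
  · have := C.F'_h 1 (ω2 * v)
    have e1 : ω * (ω2 * v) = v := by
      have : ∀ v : F4, ω * (ω2 * v) = v := by decide
      exact this v
    rw [e1, mul_one] at this
    exact this

theorem K_eq (u v : F4) : C.K u v = C.g (u * (v * v)) := by
  unfold g
  cases v
  · have h0 : (F4.z : F4) = 0 := rfl
    rw [h0, zero_mul, mul_zero]
    unfold K
    rw [C.x_zero 1 2 (by decide), zero_mul, C.x_zero 0 1 (by decide), cm_one_left, cm_one_right,
      mul_zero]
  · have h0 : (F4.o : F4) = 1 := rfl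
    rw [h0, one_mul, mul_one]
  · have h1 := C.K_h (ω2 * u) 1
    have e1 : ω * (ω2 * u) = u := by
      have : ∀ v : F4, ω * (ω2 * v) = v := by decide
      exact this u
    rw [e1, mul_one] at h1
    have e4 : u * (F4.w * F4.w) = ω2 * u := by
      have : ∀ v : F4, v * (F4.w * F4.w) = ω2 * v := by decide
      exact this u
    rw [h1, e4]
  · have h1 := C.K_h (ω2 * u) ω
    have e1 : ω * (ω2 * u) = u := by
      have : ∀ v : F4, ω * (ω2 * v) = v := by decide
      exact this u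
    have e2 : ω * ω = F4.v := by decide
    rw [e1, e2] at h1
    have h2 := C.K_h (ω * u) 1
    have e3 : ω * (ω * u) = ω2 * u := by
      have : ∀ v : F4, ω * (ω * v) = ω2 * v := by decide
      exact this u
    rw [e3, mul_one] at h2
    have e4 : u * (F4.v * F4.v) = ω * u := by
      have : ∀ v : F4, v * (F4.v * F4.v) = ω * v := by decide
      exact this u
    rw [h1, h2, e4]

theorem f_add (s s' : F4) : C.f (s + s') = C.f s * C.f s' := C.F_add_right 1 s s'
theorem f'_add (s s' : F4) : C.f' (s + s') = C.f' s * C.f' s' := C.F'_add_right 1 s s'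
theorem f_zero : C.f 0 = 1 := C.F_zero_right 1
theorem f'_zero : C.f' 0 = 1 := C.F'_zero_right 1
theorem f_sq (s : F4) : C.f s * C.f s = 1 := C.F_sq 1 s
theorem f'_sq (s : F4) : C.f' s * C.f' s = 1 := C.F'_sq 1 s
theorem f_cen (s : F4) (m : M) : C.f s * m = m * C.f s := C.F_cen 1 s m
theorem f'_cen (s : F4) (m : M) : C.f' s * m = m * C.f' s := C.F'_cen 1 s m
theorem g_cen (s : F4) (m : M) : C.g s * m = m * C.g s := C.K_cen s 1 m
theorem f_map (s : F4) : π (C.f s) = 1 := C.F_map 1 s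
theorem g_map (s : F4) : π (C.g s) = 1 := C.K_map s 1

theorem g_zero : C.g 0 = 1 := by
  show C.K 0 1 = 1
  unfold K
  rw [C.x_zero 0 1 (by decide), cm_one_left, zero_mul, C.x_zero 0 2 (by decide)]; group

theorem K_add_left (u u' v : F4) : C.K (u + u') v = C.K u v * C.K u' v * C.F u' (u * v) := by
  have h1 : cm (C.x 0 1 (u + u')) (C.x 1 2 v) = C.x 0 2 ((u + u') * v) * C.K (u + u') v :=
    C.cm_sum 0 2 1 (by decide) (by decide) (by decide) _ _
  have h2 : cm (C.x 0 1 u) (C.x 1 2 v) = C.x 0 2 (u * v) * C.K u v :=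
    C.cm_sum 0 2 1 (by decide) (by decide) (by decide) _ _
  have h3 : cm (C.x 0 1 u') (C.x 1 2 v) = C.x 0 2 (u' * v) * C.K u' v :=
    C.cm_sum 0 2 1 (by decide) (by decide) (by decide) _ _
  rw [← C.x_add 0 1 (by decide), cm_mul_left, h2, h3] at h1
  have h4 : (C.x 0 1 u')⁻¹ * C.x 0 2 (u * v) * C.x 0 1 u' = C.x 0 2 (u * v) * C.F u' (u * v) := by
    have := C.cm_row 0 1 2 (by decide) (by decide) (by decide) u' (u * v)
    have hs := C.F_sq u' (u * v)
    have hi : C.F u' (u * v) = (C.F u' (u * v))⁻¹ := by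
      rw [eq_comm]; exact inv_eq_of_mul_eq_one_left hs
    rw [hi, ← this, cm_inv]
    unfold cm; group
  have h5 : (C.x 0 1 u')⁻¹ * (C.x 0 2 (u * v) * C.K u v) * C.x 0 1 u' =
      C.x 0 2 (u * v) * C.F u' (u * v) * C.K u v := by
    calc _ = (C.x 0 1 u')⁻¹ * C.x 0 2 (u * v) * (C.K u v * C.x 0 1 u') := by group
      _ = (C.x 0 1 u')⁻¹ * C.x 0 2 (u * v) * (C.x 0 1 u' * C.K u v) := by rw [C.K_cen]
      _ = ((C.x 0 1 u')⁻¹ * C.x 0 2 (u * v) * C.x 0 1 u') * C.K u v := by group
      _ = _ := by rw [h4]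
  rw [h5, add_mul, ← C.x_add 0 2 (by decide)] at h1
  have h6 : C.x 0 2 (u * v) * C.F u' (u * v) * C.K u v * (C.x 0 2 (u' * v) * C.K u' v) =
      C.x 0 2 (u * v) * C.x 0 2 (u' * v) * (C.K u v * C.K u' v * C.F u' (u * v)) := by
    calc _ = C.x 0 2 (u * v) * (C.F u' (u * v) * (C.K u v * C.x 0 2 (u' * v)) * C.K u' v) := by group
      _ = C.x 0 2 (u * v) * (C.F u' (u * v) * C.x 0 2 (u' * v) * (C.K u v * C.K u' v)) := by
          rw [C.K_cen]; group
      _ = C.x 0 2 (u * v) * (C.x 0 2 (u' * v) * (C.F u' (u * v) * (C.K u v * C.K u' v))) := by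
          rw [C.F_cen]; group
      _ = C.x 0 2 (u * v) * (C.x 0 2 (u' * v) * ((C.K u v * C.K u' v) * C.F u' (u * v))) := by
          rw [C.F_cen u' (u * v) (C.K u v * C.K u' v)]
      _ = _ := by group
  rw [h6] at h1
  exact (mul_left_cancel h1).symm

theorem g_add (s s' : F4) : C.g (s + s') = C.g s * C.g s' * C.f (s * s') := by
  have h := C.K_add_left s s' 1
  rw [mul_one, C.F_eq, mul_comm s' s] at h
  exact h

theorem K_add_right (u v v' : F4) : C.K u (v + v') = C.K u v * C.K u v' * C.F' (u * v) v' := by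
  have h1 : cm (C.x 0 1 u) (C.x 1 2 (v + v')) = C.x 0 2 (u * (v + v')) * C.K u (v + v') :=
    C.cm_sum 0 2 1 (by decide) (by decide) (by decide) _ _
  have h2 : cm (C.x 0 1 u) (C.x 1 2 v) = C.x 0 2 (u * v) * C.K u v :=
    C.cm_sum 0 2 1 (by decide) (by decide) (by decide) _ _
  have h3 : cm (C.x 0 1 u) (C.x 1 2 v') = C.x 0 2 (u * v') * C.K u v' :=
    C.cm_sum 0 2 1 (by decide) (by decide) (by decide) _ _
  rw [← C.x_add 1 2 (by decide), cm_mul_right, h2, h3] at h1
  have h4 : (C.x 1 2 v')⁻¹ * C.x 0 2 (u * v) * C.x 1 2 v' = C.x 0 2 (u * v) * C.F' (u * v) v' := by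
    show _ = C.x 0 2 (u * v) * cm _ _
    unfold cm; group
  have h5 : (C.x 1 2 v')⁻¹ * (C.x 0 2 (u * v) * C.K u v) * C.x 1 2 v' =
      C.x 0 2 (u * v) * C.F' (u * v) v' * C.K u v := by
    calc _ = (C.x 1 2 v')⁻¹ * C.x 0 2 (u * v) * (C.K u v * C.x 1 2 v') := by group
      _ = (C.x 1 2 v')⁻¹ * C.x 0 2 (u * v) * (C.x 1 2 v' * C.K u v) := by rw [C.K_cen]
      _ = ((C.x 1 2 v')⁻¹ * C.x 0 2 (u * v) * C.x 1 2 v') * C.K u v := by group
      _ = _ := by rw [h4]
  rw [h5, mul_add, ← C.x_add 0 2 (by decide)] at h1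
  have hx : C.x 0 2 (u * v) * C.x 0 2 (u * v') = C.x 0 2 (u * v') * C.x 0 2 (u * v) := by
    rw [C.x_add 0 2 (by decide), C.x_add 0 2 (by decide), add_comm]
  have h6 : C.x 0 2 (u * v') * C.K u v' * (C.x 0 2 (u * v) * C.F' (u * v) v' * C.K u v) =
      C.x 0 2 (u * v) * C.x 0 2 (u * v') * (C.K u v * C.K u v' * C.F' (u * v) v') := by
    rw [hx]
    calc _ = C.x 0 2 (u * v') * (C.K u v' * (C.x 0 2 (u * v) * (C.F' (u * v) v' * C.K u v))) := by
            group
      _ = C.x 0 2 (u * v') * (C.x 0 2 (u * v) * (C.F' (u * v) v' * (C.K u v * C.K u v'))) := by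
          rw [C.K_cen u v']; group
      _ = C.x 0 2 (u * v') * (C.x 0 2 (u * v) * ((C.K u v * C.K u v') * C.F' (u * v) v')) := by
          rw [C.F'_cen (u * v) v' (C.K u v * C.K u v')]
      _ = _ := by group
  rw [h6] at h1
  exact (mul_left_cancel h1).symm

theorem f'_eq (s : F4) : C.f' s = C.f (s * s) := by
  have h := C.K_add_right 1 s 1
  simp only [one_mul, C.K_eq, C.F'_eq, mul_one] at h
  have e : (s + 1) * (s + 1) = s * s + 1 := by
    have : ∀ s : F4, (s + 1) * (s + 1) = s * s + 1 := by decide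
    exact this s
  rw [e, C.g_add, mul_one] at h
  exact (mul_left_cancel h).symm

theorem g_sq (s : F4) : C.g s * C.g s = C.f (s * s) := by
  have h := C.g_add s s
  rw [add_self, C.g_zero] at h
  have h2 := C.f_sq (s * s)
  calc C.g s * C.g s = C.g s * C.g s * C.f (s * s) * C.f (s * s) := by
        rw [mul_assoc (C.g s * C.g s), h2, mul_one]
    _ = C.f (s * s) := by rw [← h, one_mul]

/-- the relations between the canonical lifts -/
theorem rel_row (i j k : Fin 3) (h1 : i ≠ j) (h2 : i ≠ k) (h3 : j ≠ k) (u v : F4) :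
    C.x i j u * C.x i k v = C.x i k v * C.x i j u * C.f (u * v) := by
  rw [← C.F_eq, ← C.cm_row i j k h1 h2 h3]; exact cm_spec _ _

theorem rel_col (i j k : Fin 3) (h1 : i ≠ j) (h2 : i ≠ k) (h3 : j ≠ k) (u v : F4) :
    C.x i j u * C.x k j v = C.x k j v * C.x i j u * C.f (u * u * (v * v)) := by
  have e : u * u * (v * v) = u * v * (u * v) := by ring
  rw [e, ← C.f'_eq, ← C.F'_eq, ← C.cm_col i j k h1 h2 h3]; exact cm_spec _ _

theorem rel_sum (i j k : Fin 3) (h1 : i ≠ j) (h2 : i ≠ k) (h3 : j ≠ k) (u v : F4) :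
    C.x i k u * C.x k j v = C.x k j v * C.x i k u * (C.x i j (u * v) * C.g (u * (v * v))) := by
  rw [← C.K_eq, ← C.cm_sum i j k h1 h2 h3]; exact cm_spec _ _

end Cfsg.Agent.OddHalf.D9.L34Mult.CE
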