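import Cfsg.Agent.OddHalf.D9.L34Mult.Aut
import Cfsg.Agent.LThreeFour.Facts
import Cfsg.Agent.LThreeFour.Exists
import Cfsg.Agent.StdLThreeFour.Facts1

/-!
# GAMMA for the covers of `PSL(3,4)` whose centre is not elementary abelian

No four-group acts faithfully on `K` in such a way that for each of its involutions `u` the group `C_K(u)`
normalises it.
-/

set_option autoImplicit false
set_option linter.constructorNameAsVariable false
set_option linter.unusedSectionVars false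
set_option linter.unusedVariables false

namespace Cfsg.Agent.OddHalf.D9.L34Mult.Gamma

open Cfsg.Agent.SporadicA.FieldFour
open Cfsg.Agent.ONType.Psl
open Cfsg.Agent.ONType.Comm (cm)
open Cfsg.Agent.LThreeFour
open Cfsg.Agent.StdLThreeFour.Base (e e_mul e_zero e_inv e_02 e_01 e_12)

variable {X M : Type*} [Group X] [Group M] {π : M →* PSL3} {φ : X →* MulAut M} {ι : M →* X}
  {b : MulAut M →* MulAut PSL3}

/-- `X` acts on its normal subgroup `M`. -/
structure Act (π : M →* PSL3) (φ : X →* MulAut M) (ι : M →* X) (b : MulAut M →* MulAut PSL3) :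
    Prop where
  ce : CE π
  inj : Function.Injective ι
  conj : ∀ m, φ (ι m) = MulAut.conj m
  act : ∀ x m, x * ι m * x⁻¹ = ι (φ x m)
  bar : ∀ α m, b α (π m) = π (α m)
  perf : commutator M = ⊤
  four : ∀ k, π k = 1 → k ^ 4 = 1

/-- commuting involutions such that the centraliser in `M` of the first acts on the four-group -/
structure Q (φ : X →* MulAut M) (ι : M →* X) (u u' : X) : Prop where
  sq : u * u = 1
  sq' : u' * u' = 1
  comm : u * u' = u' * u
  fix : ∀ m, φ u m = m → ι m * u' * (ι m)⁻¹ = u' ∨ ι m * u' * (ι m)⁻¹ = u * u'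

theorem Q.conj (A : Act π φ ι b) {u u' : X} (h : Q φ ι u u') (k : M) :
    Q φ ι (ι k * u * (ι k)⁻¹) (ι k * u' * (ι k)⁻¹) := by
  refine ⟨?_, ?_, ?_, ?_⟩
  · calc ι k * u * (ι k)⁻¹ * (ι k * u * (ι k)⁻¹) = ι k * (u * u) * (ι k)⁻¹ := by group
      _ = 1 := by rw [h.sq]; group
  · calc ι k * u' * (ι k)⁻¹ * (ι k * u' * (ι k)⁻¹) = ι k * (u' * u') * (ι k)⁻¹ := by group
      _ = 1 := by rw [h.sq']; group
  · calc ι k * u * (ι k)⁻¹ * (ι k * u' * (ι k)⁻¹) = ι k * (u * u') * (ι k)⁻¹ := by group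
      _ = ι k * (u' * u) * (ι k)⁻¹ := by rw [h.comm]
      _ = _ := by group
  · intro m hm
    have h1 : φ u (k⁻¹ * m * k) = k⁻¹ * m * k := by
      rw [map_mul, map_mul, map_inv, A.conj, MulAut.mul_apply, MulAut.mul_apply,
        MulAut.conj_apply, ← map_inv, MulAut.conj_apply, inv_inv] at hm
      calc φ u (k⁻¹ * m * k) = k⁻¹ * (k * φ u (k⁻¹ * m * k) * k⁻¹) * k := by group
        _ = _ := by rw [hm]
    have e1 : ι m = ι k * ι (k⁻¹ * m * k) * (ι k)⁻¹ := by
      rw [← map_inv, ← map_mul, ← map_mul]; congr 1; group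
    have e2 : ι m * (ι k * u' * (ι k)⁻¹) * (ι m)⁻¹ =
        ι k * (ι (k⁻¹ * m * k) * u' * (ι (k⁻¹ * m * k))⁻¹) * (ι k)⁻¹ := by
      rw [e1]; group
    rw [e2]
    rcases h.fix _ h1 with h2 | h2
    · left; rw [h2]
    · right; rw [h2]; group

theorem comm_of_fix (A : Act π φ ι b) {u : X} {m : M} (h : φ u m = m) : u * ι m = ι m * u := by
  have := A.act u m
  rw [h, mul_inv_eq_iff_eq_mul] at this
  exact this

theorem fix_of_comm (A : Act π φ ι b) {u : X} {m : M} (h : u * ι m = ι m * u) : φ u m = m := by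
  apply A.inj
  rw [← A.act, h, mul_inv_cancel_right]

theorem pair_aux {u u' x y : X} (hx : u * x = x * u) (hy : u * y = y * u)
    (h1 : x * u' * x⁻¹ = u' ∨ x * u' * x⁻¹ = u * u') (h2 : y * u' * y⁻¹ = u' ∨ y * u' * y⁻¹ = u * u') :
    x * y * u' * (x * y)⁻¹ = y * x * u' * (y * x)⁻¹ := by
  have e1 : x * y * u' * (x * y)⁻¹ = x * (y * u' * y⁻¹) * x⁻¹ := by group
  have e2 : y * x * u' * (y * x)⁻¹ = y * (x * u' * x⁻¹) * y⁻¹ := by group
  have e3 : ∀ z : X, u * z = z * u → z * (u * u') * z⁻¹ = u * (z * u' * z⁻¹) := by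
    intro z hz
    calc z * (u * u') * z⁻¹ = (z * u) * u' * z⁻¹ := by group
      _ = _ := by rw [← hz]; group
  rw [e1, e2]
  rcases h1 with h1 | h1 <;> rcases h2 with h2 | h2 <;> rw [h1, h2]
  · exact h1
  · rw [e3 x hx, h1]
  · rw [h1, e3 y hy, h2]
  · rw [e3 x hx, e3 y hy, h1, h2]

/-- commutators of fixed points of `u` are fixed points of `u'` -/
theorem Q.comm_fix (A : Act π φ ι b) {u u' : X} (h : Q φ ι u u') {m m' : M} (hm : φ u m = m)
    (hm' : φ u m' = m') : φ u' (cm m m') = cm m m' := by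
  apply fix_of_comm A
  have h1 := pair_aux (comm_of_fix A hm) (comm_of_fix A hm') (h.fix m hm) (h.fix m' hm')
  have e1 : ι (cm m m') = (ι m' * ι m)⁻¹ * (ι m * ι m') := by
    unfold cm
    rw [map_mul, map_mul, map_mul, map_inv, map_inv]; group
  rw [e1]
  calc u' * ((ι m' * ι m)⁻¹ * (ι m * ι m'))
      = (ι m' * ι m)⁻¹ * (ι m' * ι m * u' * (ι m' * ι m)⁻¹) * (ι m * ι m') := by group
    _ = (ι m' * ι m)⁻¹ * (ι m * ι m' * u' * (ι m * ι m')⁻¹) * (ι m * ι m') := by rw [h1]
    _ = _ := by group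

/-- fixed points of order three of `u` are fixed points of `u'` -/
theorem Q.cube_fix (A : Act π φ ι b) {u u' : X} (h : Q φ ι u u') {m : M} (hm : φ u m = m)
    (h3 : m ^ 3 = 1) : φ u' m = m := by
  have c1 := comm_of_fix A hm
  have h2 : ι m * ι m * u' * (ι m * ι m)⁻¹ = u' := by
    have e1 : ι m * ι m * u' * (ι m * ι m)⁻¹ = ι m * (ι m * u' * (ι m)⁻¹) * (ι m)⁻¹ := by group
    rw [e1]
    rcases h.fix m hm with h1 | h1
    · rw [h1, h1]
    · rw [h1]
      calc ι m * (u * u') * (ι m)⁻¹ = (ι m * u) * u' * (ι m)⁻¹ := by group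
        _ = u * (ι m * u' * (ι m)⁻¹) := by rw [← c1]; group
        _ = (u * u) * u' := by rw [h1]; group
        _ = u' := by rw [h.sq, one_mul]
  have h5 : φ u' (m * m) = m * m := by
    apply fix_of_comm A
    rw [map_mul]
    calc u' * (ι m * ι m) = (ι m * ι m * u' * (ι m * ι m)⁻¹) * (ι m * ι m) := by rw [h2]
      _ = _ := by group
  have h4 : m = m * m * (m * m) := by
    calc m = m ^ 3 * m := by rw [h3, one_mul]
      _ = _ := by simp only [pow_succ, pow_zero, one_mul, mul_assoc]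
  rw [h4, map_mul, h5]

/-! ### outer - inner -/

theorem conj_inj {x y : PSL3} (h : MulAut.conj x = MulAut.conj y) : x = y :=
  datPSL.conj_injective h

/-- an involution and an element of order three do not commute -/
theorem no_six {z y : PSL3} (hz : z ≠ 1) (hz2 : z * z = 1) (hy : y ≠ 1) (hy3 : y ^ 3 = 1)
    (h : z * y = y * z) : False := by
  obtain ⟨g, hg⟩ := Cfsg.Agent.StdLThreeFour.Facts1.inv_conj hz hz2
  have h1 : (g * y * g⁻¹) * t 0 2 1 = t 0 2 1 * (g * y * g⁻¹) := by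
    rw [← hg]
    calc g * y * g⁻¹ * (g * z * g⁻¹) = g * (y * z) * g⁻¹ := by group
      _ = g * (z * y) * g⁻¹ := by rw [h]
      _ = _ := by group
  obtain ⟨a, b', c, h2⟩ := (Cfsg.Agent.StdL34.PslCent.cent_t02 _).1 h1
  have h3 : (g * y * g⁻¹) ^ 3 = 1 := by
    rw [conj_pow, hy3]; group
  have h4 : (g * y * g⁻¹) ^ 4 = 1 := by
    rw [h2]
    have e0 : (t 0 1 a * t 1 2 b' * t 0 2 c : PSL3) = e a b' c := rfl
    rw [e0]
    have e1 : e a b' c ^ 4 = (e a b' c * e a b' c) * (e a b' c * e a b' c) := by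
      simp only [pow_succ, pow_zero, one_mul, mul_assoc]
    rw [e1, Cfsg.Agent.StdLThreeFour.Facts1.e_sq, Cfsg.Agent.StdLThreeFour.Facts1.e_sq, mul_zero, e_zero]
  have h5 : g * y * g⁻¹ = 1 := by
    calc g * y * g⁻¹ = (g * y * g⁻¹) ^ 4 * ((g * y * g⁻¹) ^ 3)⁻¹ := by group
      _ = 1 := by rw [h4, h3]; group
  apply hy
  calc y = g⁻¹ * (g * y * g⁻¹) * g := by group
    _ = 1 := by rw [h5]; group

theorem sq_bar {u : X} (hu : u * u = 1) : b (φ u) * b (φ u) = 1 := by
  rw [← map_mul, ← map_mul, hu, map_one, map_one]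

theorem outer_inner (A : Act π φ ι b) {u u' : X} (h : Q φ ι u u')
    (ho : datPSL.tyHom (b (φ u)) ≠ 1) {k : M} (hk : φ u' = MulAut.conj k) (hk1 : π k ≠ 1) :
    False := by
  have hne : b (φ u) ≠ 1 := fun h1 => ho (by rw [h1, map_one])
  obtain ⟨l, hl⟩ := datPSL.inv_class (b (φ u)) hne (sq_bar h.sq)
  -- a fixed point of order three
  set ρ : PSL3 := t 0 2 1 * t 2 0 1 with hρ
  have hρ3 : ρ ^ 3 = 1 := datPSL.r_pow
  have hρ1 : ρ ≠ 1 := datPSL.r_ne
  have hfix : b (φ u) (l⁻¹ * ρ * l) = l⁻¹ * ρ * l := by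
    rcases hl with ⟨τ, hτ, hl⟩ | hl
    · have h1 : (MulAut.conj l * b (φ u) * (MulAut.conj l)⁻¹) ρ = ρ := by
        have e1 : ∀ e, fr e (1 : F4) = 1 := by decide
        have x1 := hl.x02 1
        have x2 := hl.x20 1
        rw [e1] at x1 x2
        rw [hρ, map_mul]
        exact congrArg₂ (· * ·) x1 x2
      rw [MulAut.mul_apply, MulAut.mul_apply, ← map_inv, MulAut.conj_apply, MulAut.conj_apply,
        inv_inv] at h1
      calc b (φ u) (l⁻¹ * ρ * l) = l⁻¹ * (l * b (φ u) (l⁻¹ * ρ * l) * l⁻¹) * l := by group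
        _ = _ := by rw [h1]
    · exfalso
      apply ho
      rw [datPSL.inner_iff]
      refine ⟨l⁻¹ * t 0 2 1 * l, ?_⟩
      rw [map_mul, map_mul, map_inv]
      have hl' : MulAut.conj l * b (φ u) * (MulAut.conj l)⁻¹ = MulAut.conj (t 0 2 1) := hl
      rw [← hl']; group
  obtain ⟨m, hm, hm3, hmu⟩ := A.ce.exists_fixed A.four b A.bar (y := l⁻¹ * ρ * l)
    (by
      have : (l⁻¹ * ρ * l) ^ 3 = l⁻¹ * ρ ^ 3 * l := by
        have := conj_pow (i := 3) (a := l⁻¹) (b := ρ)
        rwa [inv_inv] at this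
      rw [this, hρ3]; group) hfix
  have h2 := h.cube_fix A hmu hm3
  rw [hk, MulAut.conj_apply] at h2
  have h3 : π k * π m = π m * π k := by
    rw [← map_mul, ← map_mul]
    congr 1
    calc k * m = (k * m * k⁻¹) * k := by group
      _ = m * k := by rw [h2]
  refine no_six hk1 ?_ (y := π m) ?_ (by rw [← map_pow, hm3, map_one]) h3
  · apply conj_inj
    rw [map_mul, map_one, ← CE.bar_conj A.ce b A.bar, ← hk]
    exact sq_bar h.sq'
  · rw [hm]
    intro h4
    apply hρ1
    calc ρ = l * (l⁻¹ * ρ * l) * l⁻¹ := by group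
      _ = 1 := by rw [h4]; group

/-! ### inner - inner -/

theorem comm_s (C : CE π) (c v : F4) : C.x 0 2 c * (C.x 0 1 (v * v) * C.x 1 2 v) =
    C.x 0 1 (v * v) * C.x 1 2 v * C.x 0 2 c * (C.f (c * (v * v)) * C.f (c * c * (v * v))) := by
  have h1 := C.rel_row 0 2 1 (by decide) (by decide) (by decide) c (v * v)
  have h2 := C.rel_col 0 2 1 (by decide) (by decide) (by decide) c v
  calc C.x 0 2 c * (C.x 0 1 (v * v) * C.x 1 2 v)
      = (C.x 0 2 c * C.x 0 1 (v * v)) * C.x 1 2 v := by group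
    _ = C.x 0 1 (v * v) * C.x 0 2 c * (C.f (c * (v * v)) * C.x 1 2 v) := by rw [h1]; group
    _ = C.x 0 1 (v * v) * C.x 0 2 c * (C.x 1 2 v * C.f (c * (v * v))) := by rw [C.f_cen]
    _ = C.x 0 1 (v * v) * (C.x 0 2 c * C.x 1 2 v) * C.f (c * (v * v)) := by group
    _ = C.x 0 1 (v * v) * C.x 1 2 v * C.x 0 2 c * (C.f (c * c * (v * v)) * C.f (c * (v * v))) := by
        rw [h2]; group
    _ = _ := by rw [C.f_cen]

theorem aux_ab : ∀ a b' : F4, a * b' = 0 → (∀ v : F4, v * v * b' + a * v = 0 ∨ v * v * b' + a * v = 1) →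
    a = 0 ∧ b' = 0 := by decide

theorem aux_cc : ∀ c : F4, c ≠ 0 → c ≠ 1 → c + c * c = 1 := by decide

theorem inner_inner (A : Act π φ ι b) {u u' : X} (h : Q φ ι u u') {k k' : M}
    (hk : φ u = MulAut.conj k) (hk' : φ u' = MulAut.conj k') (hk1 : π k ≠ 1) (hk1' : π k' ≠ 1)
    (hne : π k ≠ π k') (hf : ∃ s, A.ce.f s ≠ 1) : False := by
  have C := A.ce
  -- `k̄` is an involution
  have hsq : ∀ {u : X} {k : M}, u * u = 1 → φ u = MulAut.conj k → π k * π k = 1 := by
    intro u k hu hk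
    apply conj_inj
    rw [map_mul, map_one, ← CE.bar_conj C b A.bar, ← hk]
    exact sq_bar hu
  -- normalise
  obtain ⟨g, hg⟩ := Cfsg.Agent.StdLThreeFour.Facts1.inv_conj hk1 (hsq h.sq hk)
  obtain ⟨g, rfl⟩ := C.surj g
  have hQ := h.conj A g
  set v := ι g * u * (ι g)⁻¹ with hv
  set v' := ι g * u' * (ι g)⁻¹ with hv'
  have e1 : ∀ {u : X} {k : M}, φ u = MulAut.conj k →
      φ (ι g * u * (ι g)⁻¹) = MulAut.conj (g * k * g⁻¹) := by
    intro u k hk
    rw [map_mul, map_mul, map_inv, A.conj, hk, map_mul, map_mul, map_inv]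
  have hc1 : φ v = MulAut.conj (g * k * g⁻¹) := e1 hk
  obtain ⟨j, hj⟩ : ∃ j, j = g * k' * g⁻¹ := ⟨_, rfl⟩
  have hc2 : φ v' = MulAut.conj j := by rw [hj]; exact e1 hk'
  have hπ1 : π (g * k * g⁻¹) = t 0 2 1 := by
    rw [map_mul, map_mul, map_inv]; exact hg
  have hπj : π j = π g * π k' * (π g)⁻¹ := by rw [hj, map_mul, map_mul, map_inv]
  have hj1 : π j ≠ 1 := by
    intro h1
    apply hk1'
    rw [hπj] at h1
    calc π k' = (π g)⁻¹ * (π g * π k' * (π g)⁻¹) * π g := by group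
      _ = 1 := by rw [h1]; group
  have hj2 : π j ≠ t 0 2 1 := by
    intro h1
    apply hne
    rw [hπj, ← hg] at h1
    exact (mul_left_cancel (mul_right_cancel h1)).symm
  have hjj : π j * π j = 1 := hsq hQ.sq' hc2
  -- they commute
  have hb1 : b (φ v) = MulAut.conj (t 0 2 1) := by rw [hc1, CE.bar_conj C b A.bar, hπ1]
  have hb2 : b (φ v') = MulAut.conj (π j) := by rw [hc2, CE.bar_conj C b A.bar]
  have hcomm : π j * t 0 2 1 = t 0 2 1 * π j := by
    apply conj_inj
    rw [map_mul, map_mul, ← hb1, ← hb2, ← map_mul, ← map_mul, ← map_mul, ← map_mul, hQ.comm]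
  obtain ⟨a, b', c, hjc⟩ := (Cfsg.Agent.StdL34.PslCent.cent_t02 _).1 hcomm
  have hje : π j = e a b' c := hjc
  have hab : a * b' = 0 := by
    rw [hje, Cfsg.Agent.StdLThreeFour.Facts1.e_sq] at hjj
    exact (Cfsg.Agent.StdLThreeFour.Facts1.e_one hjj).2.2
  -- the elements `s`
  have hx02 : φ v = MulAut.conj (C.x 0 2 1) := by
    apply C.eq_of_bar A.perf b A.bar
    rw [hb1, CE.bar_conj C b A.bar, C.map_x 0 2 (by decide)]
  have hfix : ∀ w : F4, φ v (C.x 0 1 (w * w) * C.x 1 2 w) = C.x 0 1 (w * w) * C.x 1 2 w := by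
    intro w
    have h1 := comm_s C 1 w
    rw [one_mul, one_mul, one_mul, C.f_sq, mul_one] at h1
    rw [hx02, MulAut.conj_apply, h1, mul_inv_cancel_right]
  have hπs : ∀ w : F4, π (C.x 0 1 (w * w) * C.x 1 2 w) = e (w * w) w 0 := by
    intro w
    rw [map_mul, C.map_x 0 1 (by decide), C.map_x 1 2 (by decide)]
    unfold e
    rw [t_zero, mul_one]
  -- the commutator of `s` and `j` in `PSL(3,4)`
  have hL : ∀ w : F4, π (C.x 0 1 (w * w) * C.x 1 2 w) * (π (φ v' (C.x 0 1 (w * w) * C.x 1 2 w)))⁻¹ =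
      e 0 0 (a * w + w * w * b') := by
    intro w
    rw [← A.bar, hb2, MulAut.conj_apply, hπs, hje,
      ← Cfsg.Agent.StdLThreeFour.Facts1.e_comm (w * w) w 0 a b' c]
    group
  have hcases : ∀ w : F4, φ v' (C.x 0 1 (w * w) * C.x 1 2 w) = C.x 0 1 (w * w) * C.x 1 2 w ∨
      π (C.x 0 1 (w * w) * C.x 1 2 w) * (π (φ v' (C.x 0 1 (w * w) * C.x 1 2 w)))⁻¹ = e 0 0 1 := by
    intro w
    set s := C.x 0 1 (w * w) * C.x 1 2 w
    rcases hQ.fix s (hfix w) with h1 | h1
    · left
      apply fix_of_comm A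
      calc v' * ι s = (ι s * v' * (ι s)⁻¹) * ι s := by rw [h1]
        _ = _ := by group
    · right
      have h2 : ι (s * (φ v' s)⁻¹) = v := by
        rw [map_mul, map_inv, ← A.act]
        calc ι s * (v' * ι s * v'⁻¹)⁻¹ = (ι s * v' * (ι s)⁻¹) * v'⁻¹ := by group
          _ = v := by rw [h1]; group
      rw [← map_inv, ← map_mul, e_02]
      apply conj_inj
      rw [← CE.bar_conj C b A.bar, ← A.conj, h2, hb1]
  obtain ⟨ha0, hb0⟩ := aux_ab a b' hab (by
    intro w
    rcases hcases w with h1 | h1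
    · left
      have h2 := hL w
      rw [h1, mul_inv_cancel] at h2
      rw [add_comm]
      exact (Cfsg.Agent.StdLThreeFour.Facts1.e_one h2.symm).2.2
    · right
      rw [hL w] at h1
      rw [add_comm]
      exact (Cfsg.Agent.StdLThreeFour.Facts1.e_inj h1).2.2)
  subst ha0 hb0
  have hjt : π j = t 0 2 c := by rw [hje, e_02]
  have hc0 : c ≠ 0 := by
    rintro rfl
    exact hj1 (by rw [hjt, t_zero])
  have hc1' : c ≠ 1 := by
    rintro rfl
    exact hj2 hjt
  have hcc := aux_cc c hc0 hc1'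
  -- `s` commutes with `x₀₂(c)`
  have hxc : φ v' = MulAut.conj (C.x 0 2 c) := by
    apply C.eq_of_bar A.perf b A.bar
    rw [hb2, CE.bar_conj C b A.bar, C.map_x 0 2 (by decide), hjt]
  have hf1 : ∀ w : F4, C.f (w * w) = 1 := by
    intro w
    have h1 : φ v' (C.x 0 1 (w * w) * C.x 1 2 w) = C.x 0 1 (w * w) * C.x 1 2 w := by
      rcases hcases w with h1 | h1
      · exact h1
      · exfalso
        rw [hL w] at h1
        have h2 := (Cfsg.Agent.StdLThreeFour.Facts1.e_inj h1).2.2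
        rw [zero_mul, mul_zero, add_zero] at h2
        exact absurd h2 (by decide)
    rw [hxc, MulAut.conj_apply, comm_s, mul_inv_eq_iff_eq_mul] at h1
    have h2 : C.f (c * (w * w)) * C.f (c * c * (w * w)) = 1 :=
      mul_eq_left.mp h1
    rw [← C.f_add, ← add_mul, hcc, one_mul] at h2
    exact h2
  obtain ⟨s, hs⟩ := hf
  apply hs
  have h1 := hf1 (s * s)
  have e2 : ∀ s : F4, s * s * (s * s) = s := by decide
  rw [e2] at h1
  exact h1

/-! ### field - graph -/

theorem hh_aux : ((T 0 2 (kap 2 0) * T 2 0 (kap 0 2) * T 0 2 (kap 2 0) * N 0 2 * H : SL3) :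
    Matrix (Fin 3) (Fin 3) F4) = ((1 : SL3) : Matrix (Fin 3) (Fin 3) F4) *
      Matrix.scalar (Fin 3) ω := by
  show tm 0 2 (kap 2 0) * tm 2 0 (kap 0 2) * tm 0 2 (kap 2 0) * (tm 0 2 1 * tm 2 0 1 * tm 0 2 1) * hm
    = (1 : Matrix (Fin 3) (Fin 3) F4) * Matrix.diagonal (fun _ => ω)
  decide +kernel

theorem hh_inv : t 0 2 (kap 2 0) * t 2 0 (kap 0 2) * t 0 2 (kap 2 0) * nn 0 2 = hh⁻¹ := by
  have h : t 0 2 (kap 2 0) * t 2 0 (kap 0 2) * t 0 2 (kap 2 0) * nn 0 2 * hh = 1 :=
    Cfsg.Agent.StdL34.PslCent.mk_eq_of_scalar (r := ω) (by decide) hh_aux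
  exact eq_inv_of_mul_eq_one_left h

/-- a pure field type inverts `hh` -/
theorem tau_hh {τ : Ty} {β : MulAut PSL3} (h : datPSL.IsTau τ β) (hτ : τ.1 = true) :
    β hh = hh⁻¹ := by
  have h1 : ∀ u, β (t 0 2 u) = t 0 2 (fr τ.1 u) := h.x02
  have h2 : ∀ u, β (t 2 0 u) = t 2 0 (fr τ.1 u) := h.x20
  have h3 : t 0 2 (kap 0 2) * t 2 0 (kap 2 0) * t 0 2 (kap 0 2) * (t 0 2 1 * t 2 0 1 * t 0 2 1) = hh :=
    datPSL.h_eq 0 2 (by decide)
  rw [hτ] at h1 h2
  have h4 := congrArg β h3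
  rw [← h4]
  simp only [map_mul, h1, h2]
  rw [show fr true (kap 0 2) = kap 2 0 by decide, show fr true (kap 2 0) = kap 0 2 by decide,
    show fr true (1 : F4) = 1 by decide]
  exact hh_inv

theorem aux_fix : ∀ d : Fin 3, ∃ a01 a12 a02 a21 : F4, a01 * a12 = 1 ∧ a02 * a21 ≠ 0 ∧
    pu (true, false, d) 0 1 a01 = a01 ∧ pu (true, false, d) 1 2 a12 = a12 ∧
    pu (true, false, d) 0 2 a02 = a02 ∧ pu (true, false, d) 2 1 a21 = a21 := by decide +kernel

theorem aux_graph : ∀ (τ : Ty) (p : Code) (a : F4), τ.2.1 = true → a ≠ 0 →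
    (cact p τ ⟨a, 0, 0⟩).a ≠ a := by
  decide +kernel

theorem field_graph (A : Act π φ ι b) {u u' : X} (h : Q φ ι u u')
    (h1 : (datPSL.tyHom (b (φ u))).ty.1 = true) (h2 : (datPSL.tyHom (b (φ u))).ty.2.1 = false)
    (h3 : (datPSL.tyHom (b (φ u'))).ty.2.1 = true) : False := by
  have C := A.ce
  have ho : datPSL.tyHom (b (φ u)) ≠ 1 := by
    intro h4
    rw [h4] at h1
    exact absurd h1 (by decide)
  have hne : b (φ u) ≠ 1 := fun h1 => ho (by rw [h1, map_one])
  obtain ⟨l, hl⟩ := datPSL.inv_class (b (φ u)) hne (sq_bar h.sq)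
  obtain ⟨g, rfl⟩ := C.surj l
  have hQ := h.conj A g
  set v := ι g * u * (ι g)⁻¹ with hv
  set v' := ι g * u' * (ι g)⁻¹ with hv'
  have e1 : ∀ u : X, b (φ (ι g * u * (ι g)⁻¹)) =
      MulAut.conj (π g) * b (φ u) * (MulAut.conj (π g))⁻¹ := by
    intro u
    have e0 : φ (ι g * u * (ι g)⁻¹) = MulAut.conj g * φ u * (MulAut.conj g)⁻¹ := by
      rw [map_mul, map_mul, map_inv φ, A.conj]
    rw [e0, map_mul, map_mul, map_inv b, CE.bar_conj C b A.bar]
  have e2 : ∀ u : X, datPSL.tyHom (b (φ (ι g * u * (ι g)⁻¹))) = datPSL.tyHom (b (φ u)) := by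
    intro u
    rw [e1, map_mul, map_mul, map_inv, datPSL.tyHom_conj]
    group
  -- the pure type
  obtain ⟨τ, hτ⟩ : ∃ τ, datPSL.IsTau τ (b (φ v)) := by
    rcases hl with ⟨τ, -, hl⟩ | hl
    · exact ⟨τ, by rw [hv, e1]; exact hl⟩
    · exfalso
      apply ho
      rw [← e2 u, e1, hl]
      exact datPSL.tyHom_conj _
  have hτty : (datPSL.tyHom (b (φ v))).ty = τ := by rw [hτ.hasTy.tyHom]
  rw [← e2 u] at h1 h2
  rw [← e2 u'] at h3
  rw [hτty] at h1 h2
  obtain ⟨τ1, τ2, d⟩ := τ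
  simp only at h1 h2
  subst h1 h2
  -- exact action on the canonical lifts
  have hx : ∀ i j : Fin 3, i ≠ j → ∀ w, φ v (C.x i j w) = C.x i j (pu (true, false, d) i j w) := by
    intro i j hij w
    refine C.x_map (φ v).toMonoidHom (Or.inr ?_) hij hij ?_
    · show π (φ v C.h) = _
      rw [← A.bar, C.map_h]
      exact tau_hh hτ rfl
    · show π (φ v (C.x i j w)) = _
      rw [← A.bar, C.map_x i j hij]
      exact hτ i j hij w
  obtain ⟨a01, a12, a02, a21, k1, k2, k3, k4, k5, k6⟩ := aux_fix d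
  have f1 : φ v (C.x 0 1 a01) = C.x 0 1 a01 := by rw [hx 0 1 (by decide), k3]
  have f2 : φ v (C.x 1 2 a12) = C.x 1 2 a12 := by rw [hx 1 2 (by decide), k4]
  have f3 : φ v (C.x 0 2 a02) = C.x 0 2 a02 := by rw [hx 0 2 (by decide), k5]
  have f4 : φ v (C.x 2 1 a21) = C.x 2 1 a21 := by rw [hx 2 1 (by decide), k6]
  have c1 := hQ.comm_fix A f1 f2
  have c2 := hQ.comm_fix A f3 f4
  -- the graph type fixes `t 0 2 1` and `t 0 1 a`
  have g1 : b (φ v') (t 0 2 1) = t 0 2 1 := by
    have := C.map_cm_sum 0 2 1 (by decide) (by decide) (by decide) a01 a12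
    rw [k1] at this
    rw [← this, A.bar, c1]
  have g2 : b (φ v') (t 0 1 (a02 * a21)) = t 0 1 (a02 * a21) := by
    have := C.map_cm_sum 0 1 2 (by decide) (by decide) (by decide) a02 a21
    rw [← this, A.bar, c2]
  obtain ⟨p, τ', hcd⟩ := datPSL.exists_cd (α := b (φ v')) g1
  have hty : (datPSL.tyHom (b (φ v'))).ty = τ' := by rw [hcd.hasTy.tyHom]
  rw [hty] at h3
  have g3 : datPSL.el ⟨a02 * a21, 0, 0⟩ = t 0 1 (a02 * a21) := datPSL.el_x01 _
  have g4 := hcd.apply ⟨a02 * a21, 0, 0⟩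
  rw [g3, g2, ← g3] at g4
  have g5 := datPSL.inj g4
  exact aux_graph τ' p _ h3 k2 (congrArg Code.a g5).symm

/-! ### The theorem -/

theorem four_group (A : Act π φ ι b) (hf : ∃ s, A.ce.f s ≠ 1) {u v : X} (h1 : φ u ≠ 1)
    (h2 : φ v ≠ 1) (h3 : φ (u * v) ≠ 1) (q12 : Q φ ι u v) (q21 : Q φ ι v u)
    (q13 : Q φ ι u (u * v)) (q31 : Q φ ι (u * v) u) : False := by
  have C := A.ce
  have hin : ∀ x : X, datPSL.tyHom (b (φ x)) = 1 → ∃ k, φ x = MulAut.conj k := by
    intro x hx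
    obtain ⟨l, hl⟩ := datPSL.inner_iff.mp hx
    obtain ⟨k, rfl⟩ := C.surj l
    exact ⟨k, C.inner_of_bar A.perf b A.bar hl⟩
  have hcen : ∀ k : M, π k = 1 → MulAut.conj k = 1 := by
    intro k hk
    apply MulEquiv.ext
    intro m
    rw [MulAut.conj_apply, C.cen k hk m, mul_inv_cancel_right]
    rfl
  have hk1 : ∀ {x : X} {k : M}, φ x ≠ 1 → φ x = MulAut.conj k → π k ≠ 1 := by
    intro x k hx hk h
    exact hx (by rw [hk, hcen k h])
  by_cases t1 : datPSL.tyHom (b (φ u)) = 1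
  · obtain ⟨k, hk⟩ := hin u t1
    by_cases t2 : datPSL.tyHom (b (φ v)) = 1
    · obtain ⟨k', hk'⟩ := hin v t2
      refine inner_inner A q12 hk hk' (hk1 h1 hk) (hk1 h2 hk') ?_ hf
      intro h
      apply h3
      rw [map_mul, hk, hk', ← map_mul]
      apply hcen
      have h5 : π k * π k = 1 := by
        apply conj_inj
        rw [map_mul, map_one, ← CE.bar_conj C b A.bar, ← hk]
        exact sq_bar q12.sq
      rw [map_mul, ← h, h5]
    · exact outer_inner A q21 t2 hk (hk1 h1 hk)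
  · by_cases t2 : datPSL.tyHom (b (φ v)) = 1
    · obtain ⟨k', hk'⟩ := hin v t2
      exact outer_inner A q12 t1 hk' (hk1 h2 hk')
    · by_cases t3 : datPSL.tyHom (b (φ (u * v))) = 1
      · obtain ⟨k', hk'⟩ := hin (u * v) t3
        exact outer_inner A q13 t1 hk' (hk1 h3 hk')
      · have sq : ∀ x : X, x * x = 1 → datPSL.tyHom (b (φ x)) * datPSL.tyHom (b (φ x)) = 1 := by
          intro x hx
          rw [← map_mul, sq_bar hx, map_one]
        have s1 := sq u q12.sq
        have s2 := sq v q12.sq'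
        have s3 := sq (u * v) q13.sq'
        have e3 : datPSL.tyHom (b (φ (u * v))) = datPSL.tyHom (b (φ u)) * datPSL.tyHom (b (φ v)) := by
          rw [map_mul, map_mul, map_mul]
        have b1 : bits (datPSL.tyHom (b (φ u))) ≠ (false, false) := fun h => t1 (sq_inner _ h s1)
        have b2 : bits (datPSL.tyHom (b (φ v))) ≠ (false, false) := fun h => t2 (sq_inner _ h s2)
        have b3 : bits (datPSL.tyHom (b (φ (u * v)))) ≠ (false, false) :=
          fun h => t3 (sq_inner _ h s3)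
        have f12 := field_graph A q12
        have f21 := field_graph A q21
        have f31 := field_graph A q31
        rw [e3] at b3 f31
        generalize datPSL.tyHom (b (φ u)) = g at b1 b3 f12 f21 f31
        generalize datPSL.tyHom (b (φ v)) = k at b2 b3 f12 f21 f31
        have key : ∀ g k : TyG, bits g ≠ (false, false) → bits k ≠ (false, false) →
            bits (g * k) ≠ (false, false) →
            (g.ty.1 = true ∧ g.ty.2.1 = false ∧ k.ty.2.1 = true) ∨
            (k.ty.1 = true ∧ k.ty.2.1 = false ∧ g.ty.2.1 = true) ∨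
            ((g * k).ty.1 = true ∧ (g * k).ty.2.1 = false ∧ g.ty.2.1 = true) := by
          rintro ⟨⟨a1, a2, a3⟩⟩ ⟨⟨c1, c2, c3⟩⟩ k1 k2 k3
          have e : bits ((⟨(a1, a2, a3)⟩ : TyG) * ⟨(c1, c2, c3)⟩) = (xor a1 c1, xor a2 c2) := rfl
          rw [e] at k3
          clear e
          change (a1, a2) ≠ (false, false) at k1
          change (c1, c2) ≠ (false, false) at k2
          show (a1 = true ∧ a2 = false ∧ c2 = true) ∨ (c1 = true ∧ c2 = false ∧ a2 = true) ∨
            (xor a1 c1 = true ∧ xor a2 c2 = false ∧ a2 = true)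
          revert a1 a2 c1 c2
          decide
        rcases key g k b1 b2 b3 with ⟨k1, k2, k3⟩ | ⟨k1, k2, k3⟩ | ⟨k1, k2, k3⟩
        · exact f12 k1 k2 k3
        · exact f21 k1 k2 k3
        · exact f31 k1 k2 k3

/-- **GAMMA**, for every cover of `PSL(3,4)` whose centre is a 2-group and not elementary abelian. -/
theorem gamma {G : Type*} [Group G] [Finite G] {K : Subgroup G} (hperf : commutator ↥K = ⊤)
    (hZ2 : IsPGroup 2 (Subgroup.center ↥K)) {F : Type*} [Field F] [Fintype F]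
    (hF : Fintype.card F = 4)
    (e : ↥K ⧸ Subgroup.center ↥K ≃* Matrix.ProjectiveSpecialLinearGroup (Fin 3) F)
    (hne : ∃ z ∈ Subgroup.center ↥K, z * z ≠ 1) (U : Subgroup G) (hU2 : ∀ u ∈ U, u * u = 1)
    (hU4 : Nat.card U = 4) (hUK : U ≤ Subgroup.normalizer (K : Set G))
    (hUC : U ⊓ Subgroup.centralizer (K : Set G) = ⊥)
    (hUN : ∀ u ∈ U, u ≠ 1 → ∀ k ∈ K, k * u = u * k → k ∈ Subgroup.normalizer (U : Set G)) :
    False := by
  obtain ⟨π, C, hker⟩ := exists_ce hF e
  have h2 : IsPGroup 2 π.ker := by rw [hker]; exact hZ2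
  have hcen : ∀ k : K, (∀ m, k * m = m * k) → π k = 1 := by
    intro k hk
    have : k ∈ π.ker := by
      rw [hker, Subgroup.mem_center_iff]
      exact fun m => (hk m).symm
    exact this
  obtain ⟨b, hb⟩ := C.exists_bar hcen
  let X := ↥(Subgroup.normalizer (K : Set G))
  let φ : X →* MulAut K := K.normalizerMonoidHom
  let ι : K →* X := Subgroup.inclusion Subgroup.le_normalizer
  have hφ : ∀ (x : X) (m : K), ((φ x m : K) : G) = x * m * (x : G)⁻¹ := fun x m => rfl
  have A : Act π φ ι b :=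
    { ce := C
      inj := Subgroup.inclusion_injective _
      conj := fun m => by
        apply MulEquiv.ext
        intro k
        apply Subtype.ext
        rw [hφ]; rfl
      act := fun x m => by
        apply Subtype.ext
        show (x : G) * m * (x : G)⁻¹ = ((φ x m : K) : G)
        rw [hφ]
      bar := hb
      perf := hperf
      four := C.ker_four hperf h2 }
  have hf : ∃ s, A.ce.f s ≠ 1 := by
    by_contra hcon
    push Not at hcon
    obtain ⟨z, hz, hz2⟩ := hne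
    have hzk : π z = 1 := hcen z (fun m => (Subgroup.mem_center_iff.mp hz m).symm)
    obtain ⟨i, j, rfl⟩ := C.ker_form hperf h2 z hzk
    apply hz2
    have g1 : ∀ s, C.g s * C.g s = 1 := fun s => by rw [C.g_sq]; exact hcon _
    have hc : Commute (C.g 1 ^ i) (C.g ω ^ j) :=
      (show Commute (C.g 1) (C.g ω ^ j) from C.g_cen 1 _).pow_left i
    rw [← pow_two, hc.mul_pow, ← pow_mul, ← pow_mul, mul_comm i, mul_comm j, pow_mul, pow_mul,
      pow_two, pow_two, g1, g1, one_pow, one_pow, one_mul]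
  -- the four-group
  have hfour : ∀ a : G, ∃ y ∈ U, y ≠ 1 ∧ y ≠ a := by
    intro a
    by_contra hcon
    push Not at hcon
    have hsub : (U : Set G) ⊆ ({1, a} : Set G) := by
      intro y hy
      by_cases h1 : y = 1
      · simp [h1]
      · simp [hcon y hy h1]
    have hle : (U : Set G).ncard ≤ ({1, a} : Set G).ncard :=
      Set.ncard_le_ncard hsub (Set.toFinite _)
    have h2 : ({1, a} : Set G).ncard ≤ 2 := Set.ncard_insert_le _ _ |>.trans (by simp)
    have h3 : (U : Set G).ncard = 4 := by rw [← hU4]; rfl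
    omega
  obtain ⟨u, hu, hu1, -⟩ := hfour 1
  obtain ⟨v, hv, hv1, hvu⟩ := hfour u
  have huv : u * v ≠ 1 := by
    intro hc
    apply hvu
    have : u * u = u * v := by rw [hU2 u hu, hc]
    exact (mul_left_cancel this).symm
  have hcommU : ∀ x ∈ U, ∀ y ∈ U, x * y = y * x := by
    intro x hx y hy
    have h1 := hU2 x hx
    have h2 := hU2 y hy
    have h3 := hU2 (x * y) (U.mul_mem hx hy)
    calc x * y = x * (x * y * (x * y)) * y := by rw [h3]; group
      _ = (x * x) * y * x * (y * y) := by group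
      _ = y * x := by rw [h1, h2]; group
  have hall : ∀ x y : G, x ∈ U → y ∈ U → x ≠ 1 → y ≠ 1 → x ≠ y →
      ∀ z ∈ U, z = 1 ∨ z = x ∨ z = y ∨ z = x * y := by
    intro x y hx hy hx1 hy1 hxy z hz
    by_contra hcon
    push Not at hcon
    obtain ⟨h1, h2, h3, h4⟩ := hcon
    have hxy1 : x * y ≠ 1 := by
      intro hc
      apply hxy
      have : x * x = x * y := by rw [hU2 x hx, hc]
      exact mul_left_cancel this
    have hsub : ({1, x, y, x * y, z} : Set G) ⊆ (U : Set G) := by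
      intro w hw
      simp only [Set.mem_insert_iff, Set.mem_singleton_iff] at hw
      rcases hw with rfl | rfl | rfl | rfl | rfl
      · exact U.one_mem
      · exact hx
      · exact hy
      · exact U.mul_mem hx hy
      · exact hz
    have hle := Set.ncard_le_ncard hsub (Set.toFinite _)
    have h5 : ({1, x, y, x * y, z} : Set G).ncard = 5 := by
      rw [Set.ncard_insert_of_notMem, Set.ncard_insert_of_notMem, Set.ncard_insert_of_notMem,
        Set.ncard_insert_of_notMem, Set.ncard_singleton]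
      · simpa using fun hc => h4 hc.symm
      · simp only [Set.mem_insert_iff, Set.mem_singleton_iff, not_or]
        refine ⟨fun hc => hx1 ?_, fun hc => h3 hc.symm⟩
        have : 1 * y = x * y := by rw [one_mul]; exact hc
        exact (mul_right_cancel this).symm
      · simp only [Set.mem_insert_iff, Set.mem_singleton_iff, not_or]
        refine ⟨hxy, fun hc => hy1 ?_, fun hc => h2 hc.symm⟩
        have : x * 1 = x * y := by rw [mul_one]; exact hc
        exact (mul_left_cancel this).symm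
      · simp only [Set.mem_insert_iff, Set.mem_singleton_iff, not_or]
        exact ⟨fun hc => hx1 hc.symm, fun hc => hy1 hc.symm, fun hc => hxy1 hc.symm,
          fun hc => h1 hc.symm⟩
    have h6 : (U : Set G).ncard = 4 := by rw [← hU4]; rfl
    omega
  have hQ : ∀ (x y : X), (x : G) ∈ U → (y : G) ∈ U → (x : G) ≠ 1 → (y : G) ≠ 1 → (x : G) ≠ y →
      Q φ ι x y := by
    intro x y hx hy hx1 hy1 hxy
    refine ⟨Subtype.ext (hU2 _ hx), Subtype.ext (hU2 _ hy), Subtype.ext (hcommU _ hx _ hy), ?_⟩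
    intro m hm
    have hmx : (m : G) * x = x * m := by
      have h1 := congrArg (Subtype.val) hm
      rw [hφ, mul_inv_eq_iff_eq_mul] at h1
      exact h1.symm
    have hN := hUN x hx hx1 m m.2 hmx
    have hmem : (m : G) * y * (m : G)⁻¹ ∈ U := (Subgroup.mem_normalizer_iff.mp hN y).mp hy
    rcases hall x y hx hy hx1 hy1 hxy _ hmem with h1 | h1 | h1 | h1
    · exfalso; apply hy1
      calc (y : G) = (m : G)⁻¹ * ((m : G) * y * (m : G)⁻¹) * m := by group
        _ = 1 := by rw [h1]; group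
    · exfalso; apply hxy
      calc (x : G) = (m : G)⁻¹ * (m * x) := by group
        _ = (m : G)⁻¹ * (x * m) := by rw [hmx]
        _ = (m : G)⁻¹ * ((m : G) * y * (m : G)⁻¹) * m := by rw [h1]; group
        _ = y := by group
    · left; exact Subtype.ext h1
    · right; exact Subtype.ext h1
  have hφ1 : ∀ (x : X), (x : G) ∈ U → (x : G) ≠ 1 → φ x ≠ 1 := by
    intro x hx hx1 h
    apply hx1
    have : (x : G) ∈ U ⊓ Subgroup.centralizer (K : Set G) := by
      refine ⟨hx, Subgroup.mem_centralizer_iff.mpr ?_⟩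
      intro k hk
      have h1 := congrArg (fun α : MulAut K => ((α ⟨k, hk⟩ : K) : G)) h
      have h2 : (x : G) * k * (x : G)⁻¹ = k := h1
      rw [mul_inv_eq_iff_eq_mul] at h2
      exact h2.symm
    rw [hUC] at this
    exact Subgroup.mem_bot.mp this
  have hu' := hUK hu
  have hv' := hUK hv
  let x : X := ⟨u, hu'⟩
  let y : X := ⟨v, hv'⟩
  have hxy : ((x * y : X) : G) = u * v := rfl
  have hne1 : u ≠ u * v := by
    intro h
    apply hv1
    have : u * 1 = u * v := by rw [mul_one]; exact h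
    exact (mul_left_cancel this).symm
  exact four_group A hf (u := x) (v := y) (hφ1 x hu hu1) (hφ1 y hv hv1)
    (hφ1 (x * y) (U.mul_mem hu hv) huv) (hQ x y hu hv hu1 hv1 (Ne.symm hvu))
    (hQ y x hv hu hv1 hu1 hvu) (hQ x (x * y) hu (U.mul_mem hu hv) hu1 huv hne1)
    (hQ (x * y) x (U.mul_mem hu hv) hu huv hu1 (Ne.symm hne1))

end Cfsg.Agent.OddHalf.D9.L34Mult.Gamma
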