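import Cfsg.Agent.OddHalf.D9.L34Mult.Comm
import Cfsg.Agent.ONType.PslCard
import Cfsg.Agent.ONType.Transfer
import Cfsg.Agent.S0014

/-!
# The kernel of a perfect central 2-extension of `PSL(3,4)` is generated by the values of `g`
-/

set_option autoImplicit false
set_option linter.constructorNameAsVariable false
set_option linter.unusedVariables false
set_option linter.unusedSectionVars false

namespace Cfsg.Agent.OddHalf.D9.L34Mult.CE

open Cfsg.Agent.SporadicA.FieldFour
open Cfsg.Agent.ONType.Psl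
open Cfsg.Agent.ONType.PslCard
open Cfsg.Agent.ONType.Comm

variable {M : Type*} [Group M] {π : M →* PSL3} (C : CE π)
include C

theorem mul_swap (hf : ∀ s, C.f s = 1) (b a : F4) :
    C.x 1 2 b * C.x 0 1 a = C.x 0 1 a * C.x 1 2 b * C.x 0 2 (a * b) * (C.g (a * (b * b)))⁻¹ := by
  have h := C.rel_sum 0 2 1 (by decide) (by decide) (by decide) a b
  have h2 := C.rel_row 0 2 1 (by decide) (by decide) (by decide) (a * b) a
  have h3 := C.rel_col 0 2 1 (by decide) (by decide) (by decide) (a * b) b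
  rw [hf, mul_one] at h2 h3
  have hi := C.x_inv 0 2 (by decide) (a * b)
  have hg := C.g_cen (a * (b * b))
  rw [h]
  calc C.x 1 2 b * C.x 0 1 a = C.x 1 2 b * C.x 0 1 a * (C.x 0 2 (a * b) * (C.x 0 2 (a * b))⁻¹) *
        (C.g (a * (b * b)) * (C.g (a * (b * b)))⁻¹) := by group
    _ = C.x 1 2 b * C.x 0 1 a * (C.x 0 2 (a * b) * ((C.x 0 2 (a * b))⁻¹ *
        C.g (a * (b * b))) * (C.g (a * (b * b)))⁻¹) := by group
    _ = C.x 1 2 b * C.x 0 1 a * (C.x 0 2 (a * b) * (C.g (a * (b * b)) * C.x 0 2 (a * b)) *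
        (C.g (a * (b * b)))⁻¹) := by rw [← hg, hi]
    _ = _ := by group

/-- normal form product -/
noncomputable def nf (a b c : F4) (k : M) : M := C.x 0 1 a * C.x 1 2 b * C.x 0 2 c * k

theorem map_nf (a b c : F4) (k : M) (hk : π k = 1) :
    π (C.nf a b c k) = t 0 1 a * t 1 2 b * t 0 2 c := by
  unfold nf
  rw [map_mul, map_mul, map_mul, C.map_x 0 1 (by decide), C.map_x 1 2 (by decide),
    C.map_x 0 2 (by decide), hk, mul_one]

theorem nf_mul (hf : ∀ s, C.f s = 1) (a b c a' b' c' : F4) (k k' : M) (hk : π k = 1)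
    (hk' : π k' = 1) : C.nf a b c k * C.nf a' b' c' k' =
      C.nf (a + a') (b + b') (a' * b + c + c') (k * k' * (C.g (a' * (b * b)))⁻¹) := by
  have h2 := C.rel_row 0 2 1 (by decide) (by decide) (by decide) c a'
  have h3 := C.rel_col 0 2 1 (by decide) (by decide) (by decide) c b'
  have h3' := C.rel_col 0 2 1 (by decide) (by decide) (by decide) (a' * b) b'
  rw [hf, mul_one] at h2 h3 h3'
  have ck := C.cen k hk
  have ck' := C.cen k' hk'
  have cg : ∀ m : M, (C.g (a' * (b * b)))⁻¹ * m = m * (C.g (a' * (b * b)))⁻¹ := by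
    intro m
    exact C.cen _ (by rw [map_inv, C.g_map, inv_one]) m
  unfold nf
  calc C.x 0 1 a * C.x 1 2 b * C.x 0 2 c * k * (C.x 0 1 a' * C.x 1 2 b' * C.x 0 2 c' * k')
      = C.x 0 1 a * C.x 1 2 b * C.x 0 2 c * (k * (C.x 0 1 a' * C.x 1 2 b' * C.x 0 2 c')) * k' := by
        group
    _ = C.x 0 1 a * C.x 1 2 b * (C.x 0 2 c * C.x 0 1 a') * C.x 1 2 b' * C.x 0 2 c' * (k * k') := by
        rw [ck]; group
    _ = C.x 0 1 a * C.x 1 2 b * C.x 0 1 a' * (C.x 0 2 c * C.x 1 2 b') * C.x 0 2 c' * (k * k') := by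
        rw [h2]; group
    _ = C.x 0 1 a * (C.x 1 2 b * C.x 0 1 a') * C.x 1 2 b' * (C.x 0 2 c * C.x 0 2 c') * (k * k') := by
        rw [h3]; group
    _ = C.x 0 1 a * (C.x 0 1 a' * C.x 1 2 b * C.x 0 2 (a' * b)) *
        ((C.g (a' * (b * b)))⁻¹ * (C.x 1 2 b' * (C.x 0 2 c * C.x 0 2 c') * (k * k'))) := by
        rw [C.mul_swap hf]; group
    _ = (C.x 0 1 a * C.x 0 1 a') * C.x 1 2 b * (C.x 0 2 (a' * b) * C.x 1 2 b') *
        (C.x 0 2 c * C.x 0 2 c') * (k * k') * (C.g (a' * (b * b)))⁻¹ := by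
        rw [cg]; group
    _ = (C.x 0 1 a * C.x 0 1 a') * (C.x 1 2 b * C.x 1 2 b') * (C.x 0 2 (a' * b) *
        (C.x 0 2 c * C.x 0 2 c')) * (k * k' * (C.g (a' * (b * b)))⁻¹) := by
        rw [h3']; group
    _ = _ := by
        rw [C.x_add 0 1 (by decide), C.x_add 1 2 (by decide), C.x_add 0 2 (by decide),
          C.x_add 0 2 (by decide), add_assoc (a' * b)]

theorem nf_inv (hf : ∀ s, C.f s = 1) (a b c : F4) (k : M) (hk : π k = 1) :
    (C.nf a b c k)⁻¹ = C.nf a b (a * b + c) (k⁻¹ * C.g (a * (b * b))) := by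
  apply inv_eq_of_mul_eq_one_right
  have hk2 : π (k⁻¹ * C.g (a * (b * b))) = 1 := by
    rw [map_mul, map_inv, hk, C.g_map, inv_one, one_mul]
  rw [C.nf_mul hf _ _ _ _ _ _ _ _ hk hk2]
  have e1 : a + a = 0 := add_self a
  have e2 : b + b = 0 := add_self b
  have e3 : a * b + c + (a * b + c) = 0 := add_self _
  rw [e1, e2, e3]
  unfold nf
  rw [C.x_zero 0 1 (by decide), C.x_zero 1 2 (by decide), C.x_zero 0 2 (by decide)]
  group

theorem nf_inj {a b c a' b' c' : F4} {k k' : M} (hk : π k = 1) (hk' : π k' = 1)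
    (h : C.nf a b c k = C.nf a' b' c' k') : a = a' ∧ b = b' ∧ c = c' ∧ k = k' := by
  have h1 := congrArg π h
  rw [C.map_nf _ _ _ _ hk, C.map_nf _ _ _ _ hk'] at h1
  obtain ⟨ea, eb, ec⟩ := t_inj h1
  subst ea eb ec
  exact ⟨rfl, rfl, rfl, mul_left_cancel h⟩

/-- the subgroup of the unitriangular elements times a central subgroup -/
noncomputable def W (hf : ∀ s, C.f s = 1) (A : Subgroup M) (hA : A ≤ π.ker) (hg : ∀ s, C.g s ∈ A) :
    Subgroup M where
  carrier := {m | ∃ (a b c : F4) (k : M), k ∈ A ∧ m = C.nf a b c k}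
  mul_mem' := by
    rintro _ _ ⟨a, b, c, k, hk, rfl⟩ ⟨a', b', c', k', hk', rfl⟩
    refine ⟨_, _, _, _, ?_, C.nf_mul hf _ _ _ _ _ _ _ _ (hA hk) (hA hk')⟩
    exact A.mul_mem (A.mul_mem hk hk') (A.inv_mem (hg _))
  one_mem' := by
    refine ⟨0, 0, 0, 1, A.one_mem, ?_⟩
    unfold nf
    rw [C.x_zero 0 1 (by decide), C.x_zero 1 2 (by decide), C.x_zero 0 2 (by decide)]
    group
  inv_mem' := by
    rintro _ ⟨a, b, c, k, hk, rfl⟩
    exact ⟨_, _, _, _, A.mul_mem (A.inv_mem hk) (hg _), C.nf_inv hf _ _ _ _ (hA hk)⟩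

theorem card_W (hf : ∀ s, C.f s = 1) (A : Subgroup M) (hA : A ≤ π.ker) (hg : ∀ s, C.g s ∈ A) :
    Nat.card (C.W hf A hA hg) = 64 * Nat.card A := by
  have e : Nat.card (C.W hf A hA hg) = Nat.card (F4 × F4 × F4 × A) := by
    symm
    apply Nat.card_congr
    refine Equiv.ofBijective (fun p => ⟨C.nf p.1 p.2.1 p.2.2.1 p.2.2.2.1,
      ⟨p.1, p.2.1, p.2.2.1, p.2.2.2.1, p.2.2.2.2, rfl⟩⟩) ⟨?_, ?_⟩
    · rintro ⟨a, b, c, k, hk⟩ ⟨a', b', c', k', hk'⟩ h
      have h' := congrArg Subtype.val h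
      obtain ⟨h1, h2, h3, h4⟩ := C.nf_inj (hA hk) (hA hk') h'
      simp only [Prod.mk.injEq, Subtype.mk.injEq]
      exact ⟨h1, h2, h3, h4⟩
    · rintro ⟨_, a, b, c, k, hk, rfl⟩
      exact ⟨⟨a, b, c, k, hk⟩, rfl⟩
  rw [e, Nat.card_prod, Nat.card_prod, Nat.card_prod]
  have : Nat.card F4 = 4 := by rw [Nat.card_eq_fintype_card]; exact F4.card_eq
  rw [this]; ring

theorem card_M : Nat.card M = Nat.card π.ker * 20160 := by
  have h := Subgroup.card_mul_index π.ker
  rw [Subgroup.index_ker, MonoidHom.range_eq_top.mpr C.surj, Subgroup.card_top, card_PSL3] at h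
  exact h.symm

/-- a perfect extension with kernel of order two has `g ≠ 1` -/
theorem exists_g_ne_one [Finite M] (hperf : commutator M = ⊤) (hker : Nat.card π.ker = 2) :
    ∃ s, C.g s ≠ 1 := by
  by_contra hcon
  push Not at hcon
  have hf : ∀ s, C.f s = 1 := by
    intro s
    have h := C.g_sq (s * s)
    rw [hcon, mul_one] at h
    have e : ∀ s : F4, s * s * (s * s) = s := by decide
    rw [e] at h
    exact h.symm
  obtain ⟨z, hz, hz1⟩ : ∃ z : M, π z = 1 ∧ z ≠ 1 := by
    by_contra hno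
    push Not at hno
    have : π.ker = ⊥ := by
      rw [eq_bot_iff]
      intro k hk
      exact Subgroup.mem_bot.mpr (hno k hk)
    rw [this] at hker
    simp at hker
  have hgK : ∀ s, C.g s ∈ π.ker := fun s => C.g_map s
  have hgA : ∀ s, C.g s ∈ (⊥ : Subgroup M) := fun s => Subgroup.mem_bot.mpr (hcon s)
  set P := C.W hf π.ker le_rfl hgK with hP
  set Q := C.W hf ⊥ bot_le hgA with hQ
  have cP : Nat.card P = 128 := by rw [hP, C.card_W, hker]
  have cQ : Nat.card Q = 64 := by rw [hQ, C.card_W, Subgroup.card_bot]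
  have hQP : Q ≤ P := by
    rintro _ ⟨a, b, c, k, hk, rfl⟩
    exact ⟨a, b, c, k, (bot_le : (⊥ : Subgroup M) ≤ π.ker) hk, rfl⟩
  have hidx : P.index = 315 := by
    have h := Subgroup.card_mul_index P
    rw [cP, C.card_M, hker] at h
    omega
  have hrel : (Q.subgroupOf P).index = 2 := by
    have h := Subgroup.card_mul_index (Q.subgroupOf P)
    have h2 : Nat.card (Q.subgroupOf P) = 64 := by
      rw [← cQ]
      exact Nat.card_congr (Subgroup.subgroupOfEquivOfLe hQP).toEquiv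
    rw [h2, cP] at h
    omega
  have hzP : z ∈ P := by
    refine ⟨0, 0, 0, z, hz, ?_⟩
    unfold nf
    rw [C.x_zero 0 1 (by decide), C.x_zero 1 2 (by decide), C.x_zero 0 2 (by decide)]
    group
  have hzc : z ∈ Subgroup.center M := by
    rw [Subgroup.mem_center_iff]
    intro m
    exact (C.cen z hz m).symm
  refine Cfsg.Agent.ONType.Transfer.not_mem_commutator_of_index_two P (by rw [hidx]; decide)
    (Q.subgroupOf P) hrel z hzP hzc ?_ (by rw [hperf]; exact Subgroup.mem_top z)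
  intro hmem
  rw [Subgroup.mem_subgroupOf] at hmem
  obtain ⟨a, b, c, k, hk, e⟩ := hmem
  have e0 : C.nf 0 0 0 z = C.nf a b c k := by
    rw [← e]
    unfold nf
    rw [C.x_zero 0 1 (by decide), C.x_zero 1 2 (by decide), C.x_zero 0 2 (by decide)]
    group
  have hk1 : k = 1 := Subgroup.mem_bot.mp hk
  obtain ⟨-, -, -, h4⟩ := C.nf_inj hz (by rw [hk1, map_one]) e0
  exact hz1 (h4.trans hk1)

omit C in
/-- the extension modulo a central subgroup -/
theorem quot (C : CE π) (B : Subgroup M) [B.Normal] (hB : B ≤ π.ker) :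
    CE (QuotientGroup.lift B π hB) := by
  constructor
  · intro p
    obtain ⟨m, hm⟩ := C.surj p
    exact ⟨QuotientGroup.mk m, hm⟩
  · intro k
    obtain ⟨k, rfl⟩ := QuotientGroup.mk_surjective k
    intro hk m
    obtain ⟨m, rfl⟩ := QuotientGroup.mk_surjective m
    have : π k = 1 := hk
    rw [← QuotientGroup.mk_mul, ← QuotientGroup.mk_mul, C.cen k this m]

/-- naturality of `g` -/
theorem g_nat {M' : Type*} [Group M'] {π' : M' →* PSL3} (C' : CE π') (φ : M →* M')
    (hφ : ∀ m, π' (φ m) = π m) (s : F4) : φ (C.g s) = C'.g s := by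
  unfold g K cm
  simp only [map_mul, map_inv]
  rw [x_nat C C' φ hφ 0 1 (by decide), x_nat C C' φ hφ 0 2 (by decide),
    x_nat C C' φ hφ 1 2 (by decide)]

/-- **The kernel is generated by the values of `g`.** -/
theorem ker_gen [Finite M] (hperf : commutator M = ⊤) (h2 : IsPGroup 2 π.ker) (B : Subgroup M)
    (hg : ∀ s, C.g s ∈ B) : π.ker ≤ B := by
  classical
  by_contra hcon
  -- a maximal subgroup of the kernel containing `B ⊓ ker`
  have hne : B.subgroupOf π.ker ≠ ⊤ := by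
    intro h
    exact hcon (Subgroup.subgroupOf_eq_top.mp h)
  obtain ⟨Y, hY, hBY⟩ := (eq_top_or_exists_le_coatom (B.subgroupOf π.ker)).resolve_left hne
  have : Fact (Nat.Prime 2) := ⟨Nat.prime_two⟩
  have hcomm : ∀ a b : π.ker, a * b = b * a := fun a b => Subtype.ext (C.cen a a.2 b)
  have hYn : Y.Normal := ⟨fun a ha b => by rw [hcomm b a, mul_inv_cancel_right]; exact ha⟩
  have hidx : Y.index = 2 := (Cfsg.Agent.S0014.coatom_normal_index h2 hY).2
  set A : Subgroup M := Y.map π.ker.subtype with hA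
  have hAk : A ≤ π.ker := by
    rintro _ ⟨y, _, rfl⟩
    exact y.2
  have hAn : A.Normal := ⟨fun a ha m => by
    have := C.cen a (hAk ha) m
    rw [← this, mul_inv_cancel_right]; exact ha⟩
  have hgA : ∀ s, C.g s ∈ A := by
    intro s
    refine ⟨⟨C.g s, C.g_map s⟩, hBY ?_, rfl⟩
    exact hg s
  set π' := QuotientGroup.lift A π hAk with hπ'
  have C' : CE π' := quot C A hAk
  have hperf' : commutator (M ⧸ A) = ⊤ := by
    have hs : Function.Surjective (QuotientGroup.mk' A) := QuotientGroup.mk'_surjective A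
    rw [commutator_def, ← MonoidHom.range_eq_top.mpr hs, MonoidHom.range_eq_map,
      ← Subgroup.map_commutator, ← commutator_def, hperf]
  have hker' : Nat.card π'.ker = 2 := by
    have h1 := C'.card_M
    have h3 := C.card_M
    have h4 := Subgroup.card_mul_index A
    have h5 : Nat.card A * 2 = Nat.card π.ker := by
      rw [← hidx, ← Subgroup.card_mul_index Y, hA,
        Subgroup.card_map_of_injective (Subgroup.subtype_injective _)]
    have h6 : Nat.card (M ⧸ A) = A.index := rfl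
    have h7 : 0 < Nat.card A := Nat.card_pos
    rw [h6] at h1
    rw [h1, h3, ← h5] at h4
    have h8 : Nat.card A * (Nat.card π'.ker * 20160) = Nat.card A * (2 * 20160) := by
      rw [h4]; ring
    have h9 := Nat.eq_of_mul_eq_mul_left h7 h8
    omega
  obtain ⟨s, hs⟩ := C'.exists_g_ne_one hperf' hker'
  apply hs
  rw [← C.g_nat C' (QuotientGroup.mk' A) (fun m => rfl)]
  exact (QuotientGroup.eq_one_iff _).mpr (hgA s)

end Cfsg.Agent.OddHalf.D9.L34Mult.CE
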