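import Cfsg.Agent.ONType.Psl
import Cfsg.Agent.ONType.Lift

/-!
# Canonical lifts of the root elements to an arbitrary central extension of `PSL(3,4)`

No hypothesis on the kernel.
-/

set_option autoImplicit false
set_option linter.constructorNameAsVariable false
set_option linter.unusedVariables false

namespace Cfsg.Agent.OddHalf.D9.L34Mult

open Cfsg.Agent.SporadicA.FieldFour
open Cfsg.Agent.ONType.Psl
open Cfsg.Agent.ONType.Lift (third third_spec)

/-- `M` is a central extension of `PSL(3,4)`. -/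
structure CE {M : Type*} [Group M] (π : M →* PSL3) : Prop where
  surj : Function.Surjective π
  cen : ∀ k : M, π k = 1 → ∀ m : M, k * m = m * k

variable {M : Type*} [Group M] {π : M →* PSL3}

/-- the canonical lift obtained from an arbitrary lift `y` -/
def hat (h y : M) : M := y⁻¹ * (h⁻¹ * y * h)

namespace CE

variable (C : CE π)
include C

omit C in
theorem eq_mul_of_map_eq {y y' : M} (h : π y = π y') : ∃ c, π c = 1 ∧ y' = y * c :=
  ⟨y⁻¹ * y', by rw [map_mul, map_inv, h, inv_mul_cancel], by group⟩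

/-- elements commuting modulo the centre with two elements centralise their commutator -/
theorem three_sub {a p q : M} (hp : π a * π p = π p * π a) (hq : π a * π q = π q * π a) :
    Commute a (p⁻¹ * q⁻¹ * p * q) := by
  obtain ⟨c, hc, hc'⟩ := eq_mul_of_map_eq (y := p) (y' := a⁻¹ * p * a)
    (by rw [map_mul, map_mul, map_inv, mul_assoc, ← hp, inv_mul_cancel_left])
  obtain ⟨d, hd, hd'⟩ := eq_mul_of_map_eq (y := q) (y' := a⁻¹ * q * a)
    (by rw [map_mul, map_mul, map_inv, mul_assoc, ← hq, inv_mul_cancel_left])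
  have e1 : a⁻¹ * (p⁻¹ * q⁻¹ * p * q) * a = p⁻¹ * q⁻¹ * p * q := by
    have : a⁻¹ * (p⁻¹ * q⁻¹ * p * q) * a =
        (a⁻¹ * p * a)⁻¹ * (a⁻¹ * q * a)⁻¹ * (a⁻¹ * p * a) * (a⁻¹ * q * a) := by group
    rw [this, hc', hd']
    have cc := C.cen c hc
    have dd := C.cen d hd
    calc (p * c)⁻¹ * (q * d)⁻¹ * (p * c) * (q * d)
        = c⁻¹ * p⁻¹ * d⁻¹ * q⁻¹ * (p * c) * (q * d) := by group
      _ = c⁻¹ * p⁻¹ * d⁻¹ * q⁻¹ * (c * p) * (d * q) := by rw [cc p, dd q]
      _ = c⁻¹ * (p⁻¹ * d⁻¹) * (q⁻¹ * c) * (p * d) * q := by group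
      _ = c⁻¹ * (d⁻¹ * p⁻¹) * (c * q⁻¹) * (d * p) * q := by
          rw [cc q⁻¹, ← dd p]
          rw [show p⁻¹ * d⁻¹ = d⁻¹ * p⁻¹ by rw [← mul_inv_rev, ← mul_inv_rev, dd p]]
      _ = c⁻¹ * d⁻¹ * (p⁻¹ * c) * q⁻¹ * (d * p) * q := by group
      _ = c⁻¹ * d⁻¹ * (c * p⁻¹) * q⁻¹ * (p * d) * q := by rw [← cc p⁻¹, dd p]
      _ = c⁻¹ * (d⁻¹ * c) * p⁻¹ * q⁻¹ * p * (d * q) := by group
      _ = c⁻¹ * (c * d⁻¹) * p⁻¹ * q⁻¹ * p * (q * d) := by rw [cc d⁻¹, dd q]
      _ = d⁻¹ * (p⁻¹ * q⁻¹ * p * q * d) := by group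
      _ = d⁻¹ * (d * (p⁻¹ * q⁻¹ * p * q)) := by rw [dd]
      _ = p⁻¹ * q⁻¹ * p * q := by group
  have e2 : a * (p⁻¹ * q⁻¹ * p * q) = (p⁻¹ * q⁻¹ * p * q) * a := by
    conv_lhs => rw [← e1]
    group
  exact e2

/-- some lift -/
noncomputable def l (p : PSL3) : M := (C.surj p).choose

theorem l_spec (p : PSL3) : π (C.l p) = p := (C.surj p).choose_spec

/-- a lift of the torus element -/
noncomputable def h : M := C.l hh

theorem map_h : π C.h = hh := C.l_spec _

theorem comm_lift {i j : Fin 3} (hij : i ≠ j) {u v : F4} {y y' : M} (hy : π y = t i j u)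
    (hy' : π y' = t i j v) : Commute y y' := by
  obtain ⟨h1, h2⟩ := third_spec i j hij
  set k := third i j
  set p := C.l (t i k 1) with hp
  set q := C.l (t k j v) with hq
  have ep : π p = t i k 1 := C.l_spec _
  have eq : π q = t k j v := C.l_spec _
  have hc : π (p⁻¹ * q⁻¹ * p * q) = t i j v := by
    simp only [map_mul, map_inv, ep, eq]
    have := t_sum i j k 1 v hij h1 h2
    rw [one_mul] at this
    rw [mul_assoc, this]; group
  obtain ⟨c, hc1, hc2⟩ := eq_mul_of_map_eq (hc.trans hy'.symm)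
  have hA : Commute y (p⁻¹ * q⁻¹ * p * q) := by
    apply C.three_sub
    · rw [hy, ep]; exact t_row i j k u 1 hij h1
    · rw [hy, eq]; exact t_col i j k u v hij h2.symm
  rw [hc2]
  exact hA.mul_right (C.cen c hc1 y).symm

/-- conjugation only depends on the image -/
theorem conj_central' {y c : M} (hc : π c = 1) (m : M) : (y * c)⁻¹ * m * (y * c) = y⁻¹ * m * y := by
  have cc := C.cen c hc
  calc (y * c)⁻¹ * m * (y * c) = c⁻¹ * (y⁻¹ * m * y * c) := by group
    _ = c⁻¹ * (c * (y⁻¹ * m * y)) := by rw [cc]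
    _ = _ := by group

theorem hat_mul_central (h y c : M) (hc : π c = 1) : hat h (y * c) = hat h y := by
  have cc := C.cen c hc
  unfold hat
  calc (y * c)⁻¹ * (h⁻¹ * (y * c) * h) = c⁻¹ * y⁻¹ * (h⁻¹ * y * (c * h)) := by group
    _ = c⁻¹ * (y⁻¹ * (h⁻¹ * y * h) * c) := by rw [cc h]; group
    _ = c⁻¹ * (c * (y⁻¹ * (h⁻¹ * y * h))) := by rw [cc]
    _ = _ := by group

theorem hat_mul_central' (h y c : M) (hc : π c = 1) : hat (h * c) y = hat h y := by
  unfold hat
  rw [C.conj_central' hc]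

/-- conjugates of lifts by `h` -/
theorem map_conj {i j : Fin 3} (hij : i ≠ j) {u : F4} {y h : M} (hh0 : π h = hh)
    (hy : π y = t i j u) : π (h⁻¹ * y * h) = t i j (kap i j * u) := by
  rw [map_mul, map_mul, map_inv, hy, hh0, mul_assoc, t_h i j u hij, inv_mul_cancel_left]

omit C in
theorem kap_mul (i j : Fin 3) (hij : i ≠ j) (u : F4) : kap i j * (kap j i * u) = u := by
  revert i j u; decide

omit C in
theorem kap_mul' (i j : Fin 3) (hij : i ≠ j) (u : F4) : kap j i * (kap i j * u) = u := by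
  revert i j u; decide

theorem map_conj' {i j : Fin 3} (hij : i ≠ j) {u : F4} {y h : M} (hh0 : π h = hh)
    (hy : π y = t i j u) : π (h * y * h⁻¹) = t i j (kap j i * u) := by
  rw [map_mul, map_mul, map_inv, hy, hh0, mul_inv_eq_iff_eq_mul]
  rw [t_h i j _ hij, kap_mul i j hij]

omit C in
theorem t_inv (i j : Fin 3) (hij : i ≠ j) (u : F4) : (t i j u)⁻¹ = t i j u := by
  apply inv_eq_of_mul_eq_one_left
  rw [t_add i j u u hij]
  have : u + u = 0 := by revert u; decide
  rw [this, t_zero]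

theorem map_hat {i j : Fin 3} (hij : i ≠ j) {u : F4} {y : M} (hy : π y = t i j u) :
    π (hat C.h y) = t i j (kap j i * u) := by
  unfold hat
  rw [map_mul, C.map_conj hij C.map_h hy, map_inv, hy, t_inv i j hij, t_add i j _ _ hij]
  congr 1
  have : ∀ i j : Fin 3, i ≠ j → ∀ u : F4, u + kap i j * u = kap j i * u := by decide
  exact this i j hij u

theorem hat_eq {i j : Fin 3} (hij : i ≠ j) {u : F4} {y y' : M} (hy : π y = t i j u)
    (hy' : π y' = t i j u) : hat C.h y = hat C.h y' := by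
  obtain ⟨c, h1, h2⟩ := eq_mul_of_map_eq (hy.trans hy'.symm)
  rw [h2, C.hat_mul_central _ _ _ h1]

/-- the canonical lift -/
noncomputable def x (i j : Fin 3) (u : F4) : M := hat C.h (C.l (t i j (kap i j * u)))

theorem x_eq {i j : Fin 3} (hij : i ≠ j) {u : F4} {y : M} (hy : π y = t i j (kap i j * u)) :
    C.x i j u = hat C.h y := C.hat_eq hij (C.l_spec _) hy

theorem map_x (i j : Fin 3) (hij : i ≠ j) (u : F4) : π (C.x i j u) = t i j u := by
  have := C.map_hat hij (C.l_spec (t i j (kap i j * u)))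
  rw [kap_mul' i j hij] at this
  exact this

theorem x_add (i j : Fin 3) (hij : i ≠ j) (u v : F4) : C.x i j u * C.x i j v = C.x i j (u + v) := by
  set y := C.l (t i j (kap i j * u))
  set y' := C.l (t i j (kap i j * v))
  have ey : π y = t i j (kap i j * u) := C.l_spec _
  have ey' : π y' = t i j (kap i j * v) := C.l_spec _
  have e1 : π (y * y') = t i j (kap i j * (u + v)) := by
    rw [map_mul, ey, ey', t_add _ _ _ _ hij, mul_add]
  rw [C.x_eq hij e1, C.x_eq hij ey, C.x_eq hij ey']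
  have a1 : Commute y y' := C.comm_lift hij ey ey'
  have a2 : Commute (C.h⁻¹ * y * C.h) y' := C.comm_lift hij (C.map_conj hij C.map_h ey) ey'
  unfold hat
  calc y⁻¹ * (C.h⁻¹ * y * C.h) * (y'⁻¹ * (C.h⁻¹ * y' * C.h))
      = y⁻¹ * ((C.h⁻¹ * y * C.h) * y'⁻¹) * (C.h⁻¹ * y' * C.h) := by group
    _ = y⁻¹ * (y'⁻¹ * (C.h⁻¹ * y * C.h)) * (C.h⁻¹ * y' * C.h) := by rw [a2.inv_right.eq]
    _ = (y⁻¹ * y'⁻¹) * (C.h⁻¹ * (y * y') * C.h) := by group
    _ = (y * y')⁻¹ * (C.h⁻¹ * (y * y') * C.h) := by rw [← mul_inv_rev, a1.eq]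

theorem x_zero (i j : Fin 3) (hij : i ≠ j) : C.x i j 0 = 1 := by
  have h := C.x_add i j hij 0 0
  rw [add_zero] at h
  exact mul_eq_left.mp h

theorem x_sq (i j : Fin 3) (hij : i ≠ j) (u : F4) : C.x i j u * C.x i j u = 1 := by
  rw [C.x_add i j hij]
  have : u + u = 0 := by revert u; decide
  rw [this, C.x_zero i j hij]

theorem x_inv (i j : Fin 3) (hij : i ≠ j) (u : F4) : (C.x i j u)⁻¹ = C.x i j u :=
  inv_eq_of_mul_eq_one_left (C.x_sq i j hij u)

theorem conj_eq {h' : M} (hh' : π h' = hh) (m : M) : h'⁻¹ * m * h' = C.h⁻¹ * m * C.h := by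
  obtain ⟨c, hc, rfl⟩ := eq_mul_of_map_eq (C.map_h.trans hh'.symm)
  exact C.conj_central' hc m

theorem conj_eq' {h' : M} (hh' : π h' = hh) (m : M) : h' * m * h'⁻¹ = C.h * m * C.h⁻¹ := by
  obtain ⟨c, hc, rfl⟩ := eq_mul_of_map_eq (C.map_h.trans hh'.symm)
  have cc := C.cen c hc
  calc C.h * c * m * (C.h * c)⁻¹ = C.h * (c * m) * c⁻¹ * C.h⁻¹ := by group
    _ = C.h * m * C.h⁻¹ := by rw [cc]; group

theorem h_conj_x (i j : Fin 3) (hij : i ≠ j) (u : F4) :
    (C.h)⁻¹ * C.x i j u * C.h = C.x i j (kap i j * u) := by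
  set y := C.l (t i j (kap i j * u))
  have ey : π y = t i j (kap i j * u) := C.l_spec _
  rw [C.x_eq hij ey, C.x_eq hij (u := kap i j * u) (y := C.h⁻¹ * y * C.h)
    (C.map_conj hij C.map_h ey)]
  unfold hat
  group

theorem h_conj_x' (i j : Fin 3) (hij : i ≠ j) (u : F4) :
    C.h * C.x i j u * (C.h)⁻¹ = C.x i j (kap j i * u) := by
  have := C.h_conj_x i j hij (kap j i * u)
  rw [kap_mul i j hij] at this
  rw [← this]; group

theorem x_orbit (i j : Fin 3) (hij : i ≠ j) (u : F4) :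
    C.x i j u * (C.h⁻¹ * C.x i j u * C.h) * (C.h * C.x i j u * C.h⁻¹) = 1 := by
  rw [C.h_conj_x i j hij, C.h_conj_x' i j hij, C.x_add i j hij, C.x_add i j hij]
  have : ∀ i j : Fin 3, i ≠ j → ∀ u : F4, u + kap i j * u + kap j i * u = 0 := by decide
  rw [this i j hij u, C.x_zero i j hij]

/-- **Characterisation of the canonical lifts.** -/
theorem x_uniq {i j : Fin 3} (hij : i ≠ j) {u : F4} {w : M} (hw : π w = t i j u) (hw2 : w * w = 1)
    (hw3 : w * (C.h⁻¹ * w * C.h) * (C.h * w * C.h⁻¹) = 1) : w = C.x i j u := by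
  obtain ⟨c, hc, rfl⟩ := eq_mul_of_map_eq ((C.map_x i j hij u).trans hw.symm)
  have cc := C.cen c hc
  have e2 : c * c = 1 := by
    calc c * c = (C.x i j u * C.x i j u) * (c * c) := by rw [C.x_sq i j hij, one_mul]
      _ = C.x i j u * (C.x i j u * c) * c := by group
      _ = C.x i j u * (c * C.x i j u) * c := by rw [cc]
      _ = C.x i j u * c * (C.x i j u * c) := by group
      _ = 1 := hw2
  have e3 : c * (c * c) = 1 := by
    have o := C.x_orbit i j hij u
    have h1 : C.h⁻¹ * (C.x i j u * c) * C.h = C.h⁻¹ * C.x i j u * C.h * c := by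
      calc _ = C.h⁻¹ * C.x i j u * (c * C.h) := by group
        _ = _ := by rw [cc]; group
    have h2 : C.h * (C.x i j u * c) * C.h⁻¹ = C.h * C.x i j u * C.h⁻¹ * c := by
      calc _ = C.h * C.x i j u * (c * C.h⁻¹) := by group
        _ = _ := by rw [cc]; group
    rw [h1, h2] at hw3
    set A := C.x i j u
    set B := C.h⁻¹ * A * C.h
    set D := C.h * A * C.h⁻¹
    calc c * (c * c) = (A * B * D) * (c * (c * c)) := by rw [o, one_mul]
      _ = A * B * (D * c) * c * c := by group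
      _ = A * B * (c * D) * c * c := by rw [cc D]
      _ = A * (B * c) * D * c * c := by group
      _ = A * (c * B) * D * c * c := by rw [cc B]
      _ = A * c * B * (D * c) * c := by group
      _ = A * c * B * (c * D) * c := by rw [cc D]
      _ = A * c * (B * c) * (D * c) := by group
      _ = 1 := hw3
  rw [e2, mul_one] at e3
  rw [e3, mul_one]

/-- EXACT transport of the canonical lifts under endomorphisms normalising `h` modulo the centre -/
theorem x_map (α : M →* M) (hα : π (α C.h) = hh ∨ π (α C.h) = hh⁻¹) {i j k m : Fin 3} (hij : i ≠ j)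
    (hkm : k ≠ m) {u u' : F4} (hx : π (α (C.x i j u)) = t k m u') :
    α (C.x i j u) = C.x k m u' := by
  apply C.x_uniq hkm hx
  · rw [← map_mul, C.x_sq i j hij, map_one]
  · have o := congrArg α (C.x_orbit i j hij u)
    rw [map_one, map_mul, map_mul, map_mul, map_mul, map_mul, map_mul, map_inv] at o
    rcases hα with e | e
    · rw [C.conj_eq e, C.conj_eq' e] at o
      exact o
    · have e' : π (α C.h)⁻¹ = hh := by rw [map_inv, e, inv_inv]
      have h1 := C.conj_eq e' (α (C.x i j u))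
      have h2 := C.conj_eq' e' (α (C.x i j u))
      rw [inv_inv] at h1 h2
      rw [h1, h2] at o
      have hc : Commute (C.h * α (C.x i j u) * C.h⁻¹) (C.h⁻¹ * α (C.x i j u) * C.h) :=
        C.comm_lift hkm (C.map_conj' hkm C.map_h hx) (C.map_conj hkm C.map_h hx)
      rw [mul_assoc, hc.eq, ← mul_assoc] at o
      exact o

/-- the version for conjugations -/
theorem x_conj (g : M) (hg : (π g)⁻¹ * hh * π g = hh ∨ (π g)⁻¹ * hh * π g = hh⁻¹) {i j k m : Fin 3}
    (hij : i ≠ j) (hkm : k ≠ m) {u u' : F4} (h' : (π g)⁻¹ * t i j u * π g = t k m u') :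
    g⁻¹ * C.x i j u * g = C.x k m u' := by
  have := C.x_map (MulAut.conj g⁻¹).toMonoidHom (by
      show π (g⁻¹ * C.h * g⁻¹⁻¹) = _ ∨ π (g⁻¹ * C.h * g⁻¹⁻¹) = _
      rw [inv_inv, map_mul, map_mul, map_inv, C.map_h]; exact hg) hij hkm
    (u := u) (u' := u') (by
      show π (g⁻¹ * C.x i j u * g⁻¹⁻¹) = _
      rw [inv_inv, map_mul, map_mul, map_inv, C.map_x i j hij, h'])
  simpa using this

/-- the Weyl elements -/
noncomputable def n (i j : Fin 3) : M := C.x i j 1 * C.x j i 1 * C.x i j 1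

theorem map_n (i j : Fin 3) (hij : i ≠ j) : π (C.n i j) = nn i j := by
  rw [n, map_mul, map_mul, C.map_x _ _ hij, C.map_x _ _ hij.symm]; rfl

theorem n_conj_x (i j k m : Fin 3) (hij : i ≠ j) (hkm : k ≠ m) (u : F4) :
    (C.n i j)⁻¹ * C.x k m u * C.n i j = C.x (Equiv.swap i j k) (Equiv.swap i j m) u := by
  apply C.x_conj _ _ hkm (fun e => hkm ((Equiv.swap i j).injective e))
  · rw [C.map_n i j hij, mul_assoc, t_n i j k m u hij hkm, inv_mul_cancel_left]
  · right
    rw [C.map_n i j hij, mul_assoc, inv_mul_eq_iff_eq_mul, eq_mul_inv_iff_mul_eq, hnh i j hij]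

omit C in
/-- naturality of the canonical lifts -/
theorem x_nat {M' : Type*} [Group M'] {π' : M' →* PSL3} (C : CE π) (C' : CE π') (φ : M →* M')
    (hφ : ∀ m, π' (φ m) = π m) (i j : Fin 3) (hij : i ≠ j) (u : F4) :
    φ (C.x i j u) = C'.x i j u := by
  apply C'.x_uniq hij
  · rw [hφ, C.map_x i j hij]
  · rw [← map_mul, C.x_sq i j hij, map_one]
  · have o := congrArg φ (C.x_orbit i j hij u)
    rw [map_one, map_mul, map_mul, map_mul, map_mul, map_mul, map_mul, map_inv] at o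
    have e : π' (φ C.h) = hh := by rw [hφ, C.map_h]
    rw [C'.conj_eq e, C'.conj_eq' e] at o
    exact o

end CE

end Cfsg.Agent.OddHalf.D9.L34Mult
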