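import Cfsg.Agent.OddHalf.D9.L34Mult.Mult

/-!
# The Sylow 2-subgroup of a central extension of `PSL(3,4)` in coordinates (helper281)

`nf_mul'` : the product of two elements `nf a b c k = x₀₁(a) x₁₂(b) x₀₂(c) k`, no hypothesis on the kernel.
`P` : the preimage of the group of unitriangular matrices, `card_P`, `P_index_odd`.
-/

set_option autoImplicit false
set_option linter.unusedVariables false

namespace Cfsg.Agent.OddHalf.D9.L34Mult.CE

open Cfsg.Agent.SporadicA.FieldFour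
open Cfsg.Agent.ONType.Psl
open Cfsg.Agent.OddHalf.D9.L34Mult

variable {M : Type*} [Group M] {π : M →* PSL3} (C : CE π)

theorem swap12 (b a : F4) :
    C.x 1 2 b * C.x 0 1 a = C.x 0 1 a * C.x 1 2 b * C.x 0 2 (a * b) * (C.g (a * (b * b)))⁻¹ := by
  have h := C.rel_sum 0 2 1 (by decide) (by decide) (by decide) a b
  have hi := C.x_inv 0 2 (by decide) (a * b)
  have cg : ∀ m : M, (C.g (a * (b * b)))⁻¹ * m = m * (C.g (a * (b * b)))⁻¹ := fun m =>
    C.cen _ (by rw [map_inv, C.g_map, inv_one]) m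
  rw [h]
  calc C.x 1 2 b * C.x 0 1 a = C.x 1 2 b * C.x 0 1 a * (C.x 0 2 (a * b) * (C.x 0 2 (a * b))⁻¹) := by group
    _ = C.x 1 2 b * C.x 0 1 a * (C.x 0 2 (a * b) * C.x 0 2 (a * b)) := by rw [hi]
    _ = C.x 1 2 b * C.x 0 1 a * (C.x 0 2 (a * b) * (C.g (a * (b * b)) * (C.g (a * (b * b)))⁻¹) *
        C.x 0 2 (a * b)) := by group
    _ = C.x 1 2 b * C.x 0 1 a * (C.x 0 2 (a * b) * C.g (a * (b * b)) * ((C.g (a * (b * b)))⁻¹ *
        C.x 0 2 (a * b))) := by group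
    _ = _ := by rw [cg]; group

/-- **The product in coordinates.** -/
theorem nf_mul' (a b c a' b' c' : F4) {k k' : M} (hk : π k = 1) (hk' : π k' = 1) :
    C.nf a b c k * C.nf a' b' c' k' = C.nf (a + a') (b + b') (a' * b + c + c')
      (k * k' * ((C.g (a' * (b * b)))⁻¹ * C.f (c * a' + c * c * (b' * b') + a' * b * (a' * b) * (b' * b')))) := by
  have h2 := C.rel_row 0 2 1 (by decide) (by decide) (by decide) c a'
  have h3 := C.rel_col 0 2 1 (by decide) (by decide) (by decide) c b'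
  have h3' := C.rel_col 0 2 1 (by decide) (by decide) (by decide) (a' * b) b'
  have ck := C.cen k hk
  have ck' := C.cen k' hk'
  have cg : ∀ m : M, (C.g (a' * (b * b)))⁻¹ * m = m * (C.g (a' * (b * b)))⁻¹ := by
    intro m
    exact C.cen _ (by rw [map_inv, C.g_map, inv_one]) m
  have cf := C.f_cen
  rw [C.f_add, C.f_add]
  unfold nf
  calc C.x 0 1 a * C.x 1 2 b * C.x 0 2 c * k * (C.x 0 1 a' * C.x 1 2 b' * C.x 0 2 c' * k')
      = C.x 0 1 a * C.x 1 2 b * C.x 0 2 c * (k * (C.x 0 1 a' * C.x 1 2 b' * C.x 0 2 c')) * k' := by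
        group
    _ = C.x 0 1 a * C.x 1 2 b * (C.x 0 2 c * C.x 0 1 a') * C.x 1 2 b' * C.x 0 2 c' * (k * k') := by
        rw [ck]; group
    _ = C.x 0 1 a * C.x 1 2 b * (C.x 0 1 a' * C.x 0 2 c) * (C.f (c * a') * (C.x 1 2 b' * C.x 0 2 c' * (k * k'))) := by
        rw [h2]; group
    _ = C.x 0 1 a * C.x 1 2 b * C.x 0 1 a' * (C.x 0 2 c * C.x 1 2 b') * C.x 0 2 c' * (k * k') * C.f (c * a') := by
        rw [cf]; group
    _ = C.x 0 1 a * C.x 1 2 b * C.x 0 1 a' * (C.x 1 2 b' * C.x 0 2 c) * (C.f (c * c * (b' * b')) *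
        (C.x 0 2 c' * (k * k') * C.f (c * a'))) := by
        rw [h3]; group
    _ = C.x 0 1 a * (C.x 1 2 b * C.x 0 1 a') * C.x 1 2 b' * (C.x 0 2 c * C.x 0 2 c') * (k * k') *
        (C.f (c * a') * C.f (c * c * (b' * b'))) := by
        rw [cf (c * c * (b' * b'))]; group
    _ = C.x 0 1 a * (C.x 0 1 a' * C.x 1 2 b * C.x 0 2 (a' * b)) *
        ((C.g (a' * (b * b)))⁻¹ * (C.x 1 2 b' * (C.x 0 2 c * C.x 0 2 c') * (k * k') *
        (C.f (c * a') * C.f (c * c * (b' * b'))))) := by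
        rw [C.swap12]; group
    _ = (C.x 0 1 a * C.x 0 1 a') * C.x 1 2 b * (C.x 0 2 (a' * b) * C.x 1 2 b') *
        (C.x 0 2 c * C.x 0 2 c') * (k * k') * (C.f (c * a') * C.f (c * c * (b' * b'))) *
        (C.g (a' * (b * b)))⁻¹ := by
        rw [cg]; group
    _ = (C.x 0 1 a * C.x 0 1 a') * C.x 1 2 b * (C.x 1 2 b' * C.x 0 2 (a' * b)) *
        (C.f (a' * b * (a' * b) * (b' * b')) * ((C.x 0 2 c * C.x 0 2 c') * (k * k') *
        (C.f (c * a') * C.f (c * c * (b' * b'))) * (C.g (a' * (b * b)))⁻¹)) := by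
        rw [h3']; group
    _ = (C.x 0 1 a * C.x 0 1 a') * (C.x 1 2 b * C.x 1 2 b') * (C.x 0 2 (a' * b) *
        (C.x 0 2 c * C.x 0 2 c')) * (k * k' * ((C.f (c * a') * C.f (c * c * (b' * b'))) *
        (C.g (a' * (b * b)))⁻¹ * C.f (a' * b * (a' * b) * (b' * b')))) := by
        rw [cf (a' * b * (a' * b) * (b' * b'))]; group
    _ = (C.x 0 1 a * C.x 0 1 a') * (C.x 1 2 b * C.x 1 2 b') * (C.x 0 2 (a' * b) *
        (C.x 0 2 c * C.x 0 2 c')) * (k * k' * ((C.g (a' * (b * b)))⁻¹ * (C.f (c * a') * C.f (c * c * (b' * b')) *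
        C.f (a' * b * (a' * b) * (b' * b'))))) := by
        rw [← cg]; group
    _ = _ := by
        rw [C.x_add 0 1 (by decide), C.x_add 1 2 (by decide), C.x_add 0 2 (by decide),
          C.x_add 0 2 (by decide), add_assoc (a' * b)]

theorem nf_zero (k : M) : C.nf 0 0 0 k = k := by
  unfold nf
  rw [C.x_zero 0 1 (by decide), C.x_zero 1 2 (by decide), C.x_zero 0 2 (by decide)]
  group

theorem nf_inv' (a b c : F4) {k : M} (hk : π k = 1) :
    (C.nf a b c k)⁻¹ = C.nf a b (a * b + c) (k⁻¹ * (C.g (a * (b * b)) *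
      C.f (c * a + c * c * (b * b) + a * b * (a * b) * (b * b)))) := by
  apply inv_eq_of_mul_eq_one_right
  have hk2 : π (k⁻¹ * (C.g (a * (b * b)) * C.f (c * a + c * c * (b * b) + a * b * (a * b) * (b * b)))) = 1 := by
    rw [map_mul, map_mul, map_inv, hk, C.g_map, C.f_map, inv_one, one_mul, one_mul]
  rw [C.nf_mul' _ _ _ _ _ _ hk hk2]
  have e1 : a + a = 0 := add_self a
  have e2 : b + b = 0 := add_self b
  have e3 : a * b + c + (a * b + c) = 0 := add_self _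
  rw [e1, e2, e3, C.nf_zero]
  have h1 := C.f_sq (c * a + c * c * (b * b) + a * b * (a * b) * (b * b))
  have h2 := C.f_cen (c * a + c * c * (b * b) + a * b * (a * b) * (b * b))
  generalize C.f (c * a + c * c * (b * b) + a * b * (a * b) * (b * b)) = φ at h1 h2
  have h3 := C.g_cen (a * (b * b))
  generalize C.g (a * (b * b)) = γ at h3
  calc k * (k⁻¹ * (γ * φ)) * (γ⁻¹ * φ) = γ * (φ * γ⁻¹) * φ := by group
    _ = γ * (γ⁻¹ * φ) * φ := by rw [h2]
    _ = φ * φ := by group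
    _ = 1 := h1

/-- the commutator with `x₀₂(c')` -/
theorem nf_comm02 (a b c c' : F4) {k : M} (hk : π k = 1) :
    C.nf a b c k * C.x 0 2 c' = C.x 0 2 c' * C.nf a b c k * C.f (a * c' + b * b * (c' * c')) := by
  have e : C.x 0 2 c' = C.nf 0 0 c' 1 := by
    unfold nf
    rw [C.x_zero 0 1 (by decide), C.x_zero 1 2 (by decide)]
    group
  rw [e, C.nf_mul' _ _ _ _ _ _ hk (map_one π), C.nf_mul' _ _ _ _ _ _ (map_one π) hk]
  have hz : ∀ s : F4, s * 0 = 0 := fun s => mul_zero s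
  simp only [mul_zero, zero_mul, add_zero, zero_add, C.g_zero, C.f_zero, mul_one, one_mul, inv_one]
  have h1 : a * c' + b * b * (c' * c') = c' * a + c' * c' * (b * b) := by ring
  rw [h1, add_comm c' c]
  unfold nf
  rw [mul_assoc _ _ (C.f (c' * a + c' * c' * (b * b))), mul_assoc k, C.f_sq, mul_one]

/-- the Sylow 2-subgroup -/
noncomputable def P : Subgroup M where
  carrier := {m | ∃ (a b c : F4) (k : M), π k = 1 ∧ m = C.nf a b c k}
  mul_mem' := by
    rintro _ _ ⟨a, b, c, k, hk, rfl⟩ ⟨a', b', c', k', hk', rfl⟩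
    refine ⟨_, _, _, _, ?_, C.nf_mul' _ _ _ _ _ _ hk hk'⟩
    rw [map_mul, map_mul, map_mul, map_inv, hk, hk', C.g_map, C.f_map]
    group
  one_mem' := ⟨0, 0, 0, 1, map_one π, (C.nf_zero 1).symm⟩
  inv_mem' := by
    rintro _ ⟨a, b, c, k, hk, rfl⟩
    refine ⟨_, _, _, _, ?_, C.nf_inv' _ _ _ hk⟩
    rw [map_mul, map_mul, map_inv, hk, C.g_map, C.f_map]
    group

theorem mem_P {m : M} : m ∈ C.P ↔ ∃ (a b c : F4) (k : M), π k = 1 ∧ m = C.nf a b c k := Iff.rfl

theorem ker_le_P {k : M} (hk : π k = 1) : k ∈ C.P := ⟨0, 0, 0, k, hk, (C.nf_zero k).symm⟩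

theorem card_P : Nat.card C.P = 64 * Nat.card π.ker := by
  have e : Nat.card C.P = Nat.card (F4 × F4 × F4 × π.ker) := by
    symm
    apply Nat.card_congr
    refine Equiv.ofBijective (fun p => ⟨C.nf p.1 p.2.1 p.2.2.1 p.2.2.2.1,
      ⟨p.1, p.2.1, p.2.2.1, p.2.2.2.1, p.2.2.2.2, rfl⟩⟩) ⟨?_, ?_⟩
    · rintro ⟨a, b, c, k⟩ ⟨a', b', c', k'⟩ h
      have h1 := congrArg Subtype.val h
      obtain ⟨rfl, rfl, rfl, h2⟩ := C.nf_inj k.2 k'.2 h1
      have : k = k' := Subtype.ext h2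
      rw [this]
    · rintro ⟨_, a, b, c, k, hk, rfl⟩
      exact ⟨(a, b, c, ⟨k, hk⟩), rfl⟩
  rw [e, Nat.card_prod, Nat.card_prod, Nat.card_prod]
  have h4 : Nat.card F4 = 4 := by rw [Nat.card_eq_fintype_card]; rfl
  rw [h4]
  ring

theorem P_index [Finite M] : C.P.index = 315 := by
  have h1 := C.card_M
  have h2 := Subgroup.card_mul_index C.P
  rw [C.card_P, h1] at h2
  have h3 : 0 < Nat.card π.ker := Nat.card_pos
  have h4 : Nat.card π.ker * (64 * C.P.index) = Nat.card π.ker * (64 * 315) := by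
    calc Nat.card π.ker * (64 * C.P.index) = 64 * Nat.card π.ker * C.P.index := by ring
      _ = Nat.card π.ker * 20160 := h2
      _ = _ := by ring
  have h5 := Nat.eq_of_mul_eq_mul_left h3 h4
  omega

end Cfsg.Agent.OddHalf.D9.L34Mult.CE
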