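import Cfsg.Agent.OddHalf.D9.L34Mult.NF

/-!
# The covers `4₁.L₃(4)`, `4₂.L₃(4)` in coordinates (helper281)

`Four C i e τ` : the kernel is `⟨i⟩` of order 4, `f s = i ^ fe e s`, `g s = i ^ ge e τ s`; `τ = true` : type `4₁`,
`τ = false` : type `4₂`. `exists_four` : every perfect central extension with cyclic kernel of order 4 is of this form.
-/

set_option autoImplicit false
set_option linter.unusedVariables false

namespace Cfsg.Agent.OddHalf.D9.L34Mult

open Cfsg.Agent.SporadicA.FieldFour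
open Cfsg.Agent.ONType.Psl

/-- `f s = i ^ fe e s` -/
def fe (e s : F4) : ℕ := if s = 0 ∨ s = e then 0 else 2

/-- `g s = i ^ ge e τ s` -/
def ge (e : F4) (τ : Bool) (s : F4) : ℕ :=
  if s = 0 then 0 else if s = e * e then (if τ then 2 else 0) else if s = ω * (e * e) then 1 else
    (if τ then 1 else 3)

variable {M : Type*} [Group M] {π : M →* PSL3}

/-- the cover `4₁.L₃(4)` (`τ = true`) or `4₂.L₃(4)` (`τ = false`) with its coordinates -/
structure Four (C : CE π) (i : M) (e : F4) (τ : Bool) : Prop where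
  he : e ≠ 0
  ord : orderOf i = 4
  map : π i = 1
  ker : ∀ k, π k = 1 → ∃ n : ℕ, k = i ^ n
  f : ∀ s, C.f s = i ^ fe e s
  g : ∀ s, C.g s = i ^ ge e τ s

theorem f4_cases (e : F4) (he : e ≠ 0) (s : F4) : s = 0 ∨ s = e ∨ s = ω * e ∨ s = ω2 * e := by
  revert e s; decide

open Subgroup in
/-- **Coordinates for a cyclic kernel of order 4.** -/
theorem exists_four [Finite M] (C : CE π) (hperf : commutator M = ⊤) (hcyc : IsCyclic π.ker)
    (h4 : Nat.card π.ker = 4) : ∃ (i : M) (e : F4) (τ : Bool), Four C i e τ := by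
  obtain ⟨⟨j, hj⟩, hgen⟩ := hcyc.exists_generator
  have hjm : π j = 1 := hj
  have hker0 : ∀ k, π k = 1 → k ∈ zpowers j := by
    intro k hk
    obtain ⟨n, hn⟩ := mem_zpowers_iff.1 (hgen ⟨k, hk⟩)
    exact mem_zpowers_iff.2 ⟨n, by simpa using congrArg Subtype.val hn⟩
  have hord : orderOf j = 4 := by
    have h1 : orderOf (⟨j, hj⟩ : π.ker) = Nat.card π.ker := orderOf_eq_card_of_forall_mem_zpowers hgen
    rw [Subgroup.orderOf_mk, h4] at h1
    exact h1
  have hpow : ∀ k, π k = 1 → ∃ n < 4, k = j ^ n := by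
    classical
    intro k hk
    have h1 := hker0 k hk
    rw [mem_zpowers_iff_mem_range_orderOf, hord] at h1
    simp only [Finset.mem_image, Finset.mem_range] at h1
    obtain ⟨n, hn, hn2⟩ := h1
    exact ⟨n, hn, hn2.symm⟩
  have hj4 : j ^ 4 = 1 := by rw [← hord, pow_orderOf_eq_one]
  have hj2 : j ^ 2 ≠ 1 := by
    intro h
    have := orderOf_dvd_of_pow_eq_one h
    rw [hord] at this
    omega
  have hj8 : j * j * (j * j) = 1 := by rw [← hj4]; simp only [pow_succ, pow_zero, one_mul, mul_assoc]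
  -- squares: `k * k = 1` or `j ^ 2`
  have hsq : ∀ k, π k = 1 → k * k = 1 → k = 1 ∨ k = j ^ 2 := by
    intro k hk h2
    obtain ⟨n, hn, rfl⟩ := hpow k hk
    interval_cases n
    · left; exact pow_zero j
    · exfalso; apply hj2; rw [pow_one] at h2; rw [pow_two]; exact h2
    · right; rfl
    · exfalso
      apply hj2
      have e : j ^ 3 * j ^ 3 = j ^ 4 * j ^ 2 := by rw [← pow_add, ← pow_add]
      rw [e, hj4, one_mul] at h2
      exact h2
  have hf2 : ∀ s, C.f s = 1 ∨ C.f s = j ^ 2 := fun s => hsq _ (C.f_map s) (C.f_sq s)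
  have hj22 : j ^ 2 * j ^ 2 = 1 := by rw [← pow_add, hj4]
  -- `f` is not trivial
  have hfne : ∃ s, C.f s ≠ 1 := by
    by_contra hcon
    push Not at hcon
    have hg2 : ∀ s, C.g s ∈ zpowers (j ^ 2) := by
      intro s
      have h1 := C.g_sq s
      rw [hcon] at h1
      rcases hsq _ (C.g_map s) h1 with h | h
      · rw [h]; exact one_mem _
      · rw [h]; exact mem_zpowers _
    have h2 : IsPGroup 2 π.ker := IsPGroup.of_card (n := 2) (by rw [h4]; norm_num)
    have h3 := C.ker_gen hperf h2 _ hg2 (show j ∈ π.ker from hj)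
    obtain ⟨n, hn⟩ := mem_zpowers_iff.1 h3
    apply hj2
    calc j ^ 2 = ((j ^ 2) ^ n) ^ 2 := by rw [hn]
      _ = (j ^ 4) ^ n := by
        rw [← zpow_natCast, ← zpow_mul, ← zpow_natCast, ← zpow_mul, ← zpow_natCast, ← zpow_mul]
        congr 1; push_cast; ring
      _ = 1 := by rw [hj4, one_zpow]
  have hfa := C.f_add
  -- the kernel of `f`
  obtain ⟨e, he, hfe⟩ : ∃ e : F4, e ≠ 0 ∧ C.f e = 1 := by
    rcases hf2 1 with h1 | h1
    · exact ⟨1, by decide, h1⟩
    · rcases hf2 ω with h2 | h2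
      · exact ⟨ω, by decide, h2⟩
      · refine ⟨1 + ω, by decide, ?_⟩
        rw [hfa, h1, h2, hj22]
  have hf : ∀ s, C.f s = j ^ fe e s := by
    have hw : C.f (ω * e) = j ^ 2 := by
      rcases hf2 (ω * e) with h | h
      · exfalso
        obtain ⟨s, hs⟩ := hfne
        apply hs
        rcases f4_cases e he s with rfl | rfl | rfl | rfl
        · exact C.f_zero
        · exact hfe
        · exact h
        · have e1 : ω2 * e = e + ω * e := by
            have : ∀ e : F4, ω2 * e = e + ω * e := by decide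
            exact this e
          rw [e1, hfa, hfe, h, mul_one]
      · exact h
    intro s
    rcases f4_cases e he s with h | h | h | h
    · rw [h, C.f_zero]; unfold fe; simp
    · rw [h, hfe]; unfold fe; simp
    · rw [h, hw]
      have : fe e (ω * e) = 2 := by clear * - he; revert e; decide
      rw [this]
    · have e1 : ω2 * e = e + ω * e := by
        have : ∀ e : F4, ω2 * e = e + ω * e := by decide
        exact this e
      have : fe e (ω2 * e) = 2 := by clear * - he; revert e; decide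
      rw [h, this, e1, hfa, hfe, one_mul, hw]
  -- choose `i` with `g (ω e²) = i`
  have hgw : C.g (ω * (e * e)) * C.g (ω * (e * e)) = j ^ 2 := by
    rw [C.g_sq, hf]
    have : fe e (ω * (e * e) * (ω * (e * e))) = 2 := by clear * - he; revert e; decide
    rw [this]
  obtain ⟨i, hi1, hi2, hi4, hi⟩ : ∃ i, orderOf i = 4 ∧ π i = 1 ∧ i ^ 2 = j ^ 2 ∧ C.g (ω * (e * e)) = i := by
    refine ⟨C.g (ω * (e * e)), ?_, C.g_map _, by rw [pow_two, hgw], rfl⟩
    obtain ⟨n, hn, hn2⟩ := hpow _ (C.g_map (ω * (e * e)))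
    rw [hn2] at hgw
    interval_cases n
    · exfalso; apply hj2; rw [← hgw, pow_zero, one_mul]
    · rw [hn2, pow_one, hord]
    · exfalso; apply hj2; rw [← hgw, hj22]
    · rw [hn2]
      rw [orderOf_pow' j (by norm_num), hord]
      norm_num
  have hkeri : ∀ k, π k = 1 → ∃ n : ℕ, k = i ^ n := by
    intro k hk
    obtain ⟨n, hn, hn2⟩ := hpow i hi2
    obtain ⟨m, hm, hm2⟩ := hpow k hk
    have hi4' : i ^ 4 = 1 := by rw [← hi1, pow_orderOf_eq_one]
    rw [hn2] at hi4 hi1
    interval_cases n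
    · exfalso; rw [pow_zero, orderOf_one] at hi1; omega
    · exact ⟨m, by rw [hn2, pow_one, hm2]⟩
    · exfalso
      apply hj2
      rw [← hi4, ← pow_mul]
      exact hj4
    · refine ⟨3 * m, ?_⟩
      rw [hn2, hm2, ← pow_mul]
      have e9 : 3 * (3 * m) = 4 * (2 * m) + m := by ring
      rw [e9, pow_add, pow_mul, hj4, one_pow, one_mul]
  have hg0 : C.g (e * e) = 1 ∨ C.g (e * e) = i ^ 2 := by
    rw [hi4]
    apply hsq _ (C.g_map _)
    rw [C.g_sq, hf]
    have : fe e (e * e * (e * e)) = 0 := by clear * - he; revert e; decide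
    rw [this, pow_zero]
  have hgv : C.g (ω2 * (e * e)) = C.g (e * e) * i * i ^ 2 := by
    have e1 : ω2 * (e * e) = e * e + ω * (e * e) := by
      have : ∀ e : F4, ω2 * (e * e) = e * e + ω * (e * e) := by decide
      exact this e
    rw [e1, C.g_add, hi, hf, hi4]
    have : fe e (e * e * (ω * (e * e))) = 2 := by clear * - he; revert e; decide
    rw [this]
  have hi4' : i ^ 4 = 1 := by rw [← hi1, pow_orderOf_eq_one]
  have hfi : ∀ s, C.f s = i ^ fe e s := by
    intro s
    rw [hf]
    unfold fe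
    split_ifs
    · rw [pow_zero, pow_zero]
    · rw [hi4]
  have hee : e * e ≠ 0 := by clear * - he; revert e; decide
  rcases hg0 with h0 | h0
  · refine ⟨i, e, false, he, hi1, hi2, hkeri, hfi, ?_⟩
    intro s
    rcases f4_cases (e * e) hee s with h | h | h | h
    · rw [h, C.g_zero]; unfold ge; simp
    · have : ge e false (e * e) = 0 := by clear * - he; revert e; decide
      rw [h, h0, this, pow_zero]
    · have : ge e false (ω * (e * e)) = 1 := by clear * - he; revert e; decide
      rw [h, hi, this, pow_one]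
    · have : ge e false (ω2 * (e * e)) = 3 := by clear * - he; revert e; decide
      rw [h, hgv, h0, this]
      group
  · refine ⟨i, e, true, he, hi1, hi2, hkeri, hfi, ?_⟩
    intro s
    rcases f4_cases (e * e) hee s with h | h | h | h
    · rw [h, C.g_zero]; unfold ge; simp
    · have : ge e true (e * e) = 2 := by clear * - he; revert e; decide
      rw [h, h0, this]
    · have : ge e true (ω * (e * e)) = 1 := by clear * - he; revert e; decide
      rw [h, hi, this, pow_one]
    · have : ge e true (ω2 * (e * e)) = 1 := by clear * - he; revert e; decide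
      rw [h, hgv, h0, this, pow_one]
      calc i ^ 2 * i * i ^ 2 = i ^ 4 * i := by group
        _ = i := by rw [hi4', one_mul]

namespace Four

variable {C : CE π} {i : M} {e : F4} {τ : Bool} (H : Four C i e τ)
include H

theorem pow_four : i ^ 4 = 1 := by rw [← H.ord, pow_orderOf_eq_one]

theorem pow_mod (n : ℕ) : i ^ (n % 4) = i ^ n := by
  conv_rhs => rw [← Nat.div_add_mod n 4, pow_add, pow_mul, H.pow_four, one_pow, one_mul]

theorem pow_eq_iff {m n : ℕ} : i ^ m = i ^ n ↔ m % 4 = n % 4 := by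
  rw [pow_eq_pow_iff_modEq, H.ord]; rfl

theorem map_pow (n : ℕ) : π (i ^ n) = 1 := by rw [_root_.map_pow, H.map, one_pow]

theorem cen (n : ℕ) (m : M) : i ^ n * m = m * i ^ n := C.cen _ (H.map_pow n) m

theorem inv_pow (n : ℕ) : (i ^ n)⁻¹ = i ^ (3 * n) := by
  apply inv_eq_of_mul_eq_one_right
  rw [← pow_add, show n + 3 * n = 4 * n by ring, pow_mul, H.pow_four, one_pow]

/-- the product in coordinates -/
theorem mul (a b c a' b' c' : F4) (n n' : ℕ) : C.nf a b c (i ^ n) * C.nf a' b' c' (i ^ n') =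
    C.nf (a + a') (b + b') (a' * b + c + c') (i ^ (n + n' + 3 * ge e τ (a' * (b * b)) +
      fe e (c * a' + c * c * (b' * b') + a' * b * (a' * b) * (b' * b')))) := by
  rw [C.nf_mul' _ _ _ _ _ _ (H.map_pow n) (H.map_pow n'), H.f, H.g, H.inv_pow, ← pow_add, ← pow_add, ← pow_add]
  congr 2
  ring

theorem nf_eq_iff {a b c a' b' c' : F4} {n n' : ℕ} : C.nf a b c (i ^ n) = C.nf a' b' c' (i ^ n') ↔
    a = a' ∧ b = b' ∧ c = c' ∧ n % 4 = n' % 4 := by
  constructor
  · intro h
    obtain ⟨h1, h2, h3, h4⟩ := C.nf_inj (H.map_pow n) (H.map_pow n') h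
    exact ⟨h1, h2, h3, H.pow_eq_iff.1 h4⟩
  · rintro ⟨rfl, rfl, rfl, h⟩
    rw [H.pow_eq_iff.2 h]

theorem mem_P {m : M} : m ∈ C.P ↔ ∃ (a b c : F4) (n : ℕ), m = C.nf a b c (i ^ n) := by
  constructor
  · rintro ⟨a, b, c, k, hk, rfl⟩
    obtain ⟨n, rfl⟩ := H.ker k hk
    exact ⟨a, b, c, n, rfl⟩
  · rintro ⟨a, b, c, n, rfl⟩
    exact ⟨a, b, c, _, H.map_pow n, rfl⟩

theorem card_P : Nat.card C.P = 256 := by
  rw [C.card_P]
  have h1 : π.ker = Subgroup.zpowers i := by
    ext k
    constructor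
    · intro hk
      obtain ⟨n, rfl⟩ := H.ker k hk
      exact Subgroup.pow_mem _ (Subgroup.mem_zpowers i) n
    · intro hk
      obtain ⟨n, rfl⟩ := Subgroup.mem_zpowers_iff.1 hk
      rw [MonoidHom.mem_ker, map_zpow, H.map, one_zpow]
  rw [h1, Nat.card_zpowers, H.ord]

end Four

end Cfsg.Agent.OddHalf.D9.L34Mult
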